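import Cfsg.Agent.H15.YB.X2.D

/-! Generated by tools/h15/yb.py. -/

set_option maxRecDepth 100000
set_option maxHeartbeats 0
set_option Elab.async false

namespace H15.YB.X2

open H16 H16.DC
open H26 (jn)

theorem g4_2 : T0.prsChkJ (nat_lit 19) (nat_lit 2) Pg4 = true := by decide +kernel
theorem g4_3 : T0.prsChkJ (nat_lit 19) (nat_lit 3) Pg4 = true := by decide +kernel
theorem g4_4 : T0.prsChkJ (nat_lit 19) (nat_lit 4) Pg4 = true := by decide +kernel
theorem g4_5 : T0.prsChkJ (nat_lit 19) (nat_lit 5) Pg4 = true := by decide +kernel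
theorem g4_6 : T0.prsChkJ (nat_lit 19) (nat_lit 6) Pg4 = true := by decide +kernel
theorem g4_7 : T0.prsChkJ (nat_lit 19) (nat_lit 7) Pg4 = true := by decide +kernel
theorem g4_8 : T0.prsChkJ (nat_lit 19) (nat_lit 8) Pg4 = true := by decide +kernel
theorem g4_9 : T0.prsChkJ (nat_lit 19) (nat_lit 9) Pg4 = true := by decide +kernel
theorem g4_10 : T0.prsChkJ (nat_lit 19) (nat_lit 10) Pg4 = true := by decide +kernel
theorem g4_11 : T0.prsChkJ (nat_lit 19) (nat_lit 11) Pg4 = true := by decide +kernel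
theorem g4_12 : T0.prsChkJ (nat_lit 19) (nat_lit 12) Pg4 = true := by decide +kernel
theorem g4_13 : T0.prsChkJ (nat_lit 19) (nat_lit 13) Pg4 = true := by decide +kernel
theorem g4_14 : T0.prsChkJ (nat_lit 19) (nat_lit 14) Pg4 = true := by decide +kernel
theorem g4_15 : T0.prsChkJ (nat_lit 19) (nat_lit 15) Pg4 = true := by decide +kernel
theorem g4_16 : T0.prsChkJ (nat_lit 19) (nat_lit 16) Pg4 = true := by decide +kernel
theorem g4_17 : T0.prsChkJ (nat_lit 19) (nat_lit 17) Pg4 = true := by decide +kernel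
theorem g4_18 : T0.prsChkJ (nat_lit 19) (nat_lit 18) Pg4 = true := by decide +kernel
theorem pa : ∀ d ∈ PA, d ∈ Pg0 ∨ d ∈ Pg1 ∨ d ∈ Pg2 ∨ d ∈ Pg3 ∨ d ∈ Pg4 := by decide +kernel
theorem pb : H26.relsOf (H26.invL []) H26.F23.R0 PA = true := by decide +kernel
theorem x0_0 : T.prsChkJ (nat_lit 19) (nat_lit 0) Px0 = true := by decide +kernel
theorem x0_1 : T.prsChkJ (nat_lit 19) (nat_lit 1) Px0 = true := by decide +kernel
theorem x0_2 : T.prsChkJ (nat_lit 19) (nat_lit 2) Px0 = true := by decide +kernel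
theorem x0_3 : T.prsChkJ (nat_lit 19) (nat_lit 3) Px0 = true := by decide +kernel
theorem x0_4 : T.prsChkJ (nat_lit 19) (nat_lit 4) Px0 = true := by decide +kernel
theorem x0_5 : T.prsChkJ (nat_lit 19) (nat_lit 5) Px0 = true := by decide +kernel
theorem x0_6 : T.prsChkJ (nat_lit 19) (nat_lit 6) Px0 = true := by decide +kernel
theorem x0_7 : T.prsChkJ (nat_lit 19) (nat_lit 7) Px0 = true := by decide +kernel
theorem x0_8 : T.prsChkJ (nat_lit 19) (nat_lit 8) Px0 = true := by decide +kernel
theorem x0_9 : T.prsChkJ (nat_lit 19) (nat_lit 9) Px0 = true := by decide +kernel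
theorem x0_10 : T.prsChkJ (nat_lit 19) (nat_lit 10) Px0 = true := by decide +kernel
theorem x0_11 : T.prsChkJ (nat_lit 19) (nat_lit 11) Px0 = true := by decide +kernel
theorem x0_12 : T.prsChkJ (nat_lit 19) (nat_lit 12) Px0 = true := by decide +kernel
theorem x0_13 : T.prsChkJ (nat_lit 19) (nat_lit 13) Px0 = true := by decide +kernel
theorem x0_14 : T.prsChkJ (nat_lit 19) (nat_lit 14) Px0 = true := by decide +kernel
theorem x0_15 : T.prsChkJ (nat_lit 19) (nat_lit 15) Px0 = true := by decide +kernel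
theorem x0_16 : T.prsChkJ (nat_lit 19) (nat_lit 16) Px0 = true := by decide +kernel
theorem x0_17 : T.prsChkJ (nat_lit 19) (nat_lit 17) Px0 = true := by decide +kernel
theorem x0_18 : T.prsChkJ (nat_lit 19) (nat_lit 18) Px0 = true := by decide +kernel
theorem x1_0 : T.prsChkJ (nat_lit 19) (nat_lit 0) Px1 = true := by decide +kernel
theorem x1_1 : T.prsChkJ (nat_lit 19) (nat_lit 1) Px1 = true := by decide +kernel
theorem x1_2 : T.prsChkJ (nat_lit 19) (nat_lit 2) Px1 = true := by decide +kernel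
theorem x1_3 : T.prsChkJ (nat_lit 19) (nat_lit 3) Px1 = true := by decide +kernel
theorem x1_4 : T.prsChkJ (nat_lit 19) (nat_lit 4) Px1 = true := by decide +kernel
theorem x1_5 : T.prsChkJ (nat_lit 19) (nat_lit 5) Px1 = true := by decide +kernel
theorem x1_6 : T.prsChkJ (nat_lit 19) (nat_lit 6) Px1 = true := by decide +kernel
theorem x1_7 : T.prsChkJ (nat_lit 19) (nat_lit 7) Px1 = true := by decide +kernel
theorem x1_8 : T.prsChkJ (nat_lit 19) (nat_lit 8) Px1 = true := by decide +kernel
theorem x1_9 : T.prsChkJ (nat_lit 19) (nat_lit 9) Px1 = true := by decide +kernel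
theorem x1_10 : T.prsChkJ (nat_lit 19) (nat_lit 10) Px1 = true := by decide +kernel
theorem x1_11 : T.prsChkJ (nat_lit 19) (nat_lit 11) Px1 = true := by decide +kernel
theorem x1_12 : T.prsChkJ (nat_lit 19) (nat_lit 12) Px1 = true := by decide +kernel
theorem x1_13 : T.prsChkJ (nat_lit 19) (nat_lit 13) Px1 = true := by decide +kernel
theorem x1_14 : T.prsChkJ (nat_lit 19) (nat_lit 14) Px1 = true := by decide +kernel
theorem x1_15 : T.prsChkJ (nat_lit 19) (nat_lit 15) Px1 = true := by decide +kernel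
theorem x1_16 : T.prsChkJ (nat_lit 19) (nat_lit 16) Px1 = true := by decide +kernel
theorem x1_17 : T.prsChkJ (nat_lit 19) (nat_lit 17) Px1 = true := by decide +kernel
theorem x1_18 : T.prsChkJ (nat_lit 19) (nat_lit 18) Px1 = true := by decide +kernel
theorem x2_0 : T.prsChkJ (nat_lit 19) (nat_lit 0) Px2 = true := by decide +kernel
theorem x2_1 : T.prsChkJ (nat_lit 19) (nat_lit 1) Px2 = true := by decide +kernel
theorem x2_2 : T.prsChkJ (nat_lit 19) (nat_lit 2) Px2 = true := by decide +kernel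
theorem x2_3 : T.prsChkJ (nat_lit 19) (nat_lit 3) Px2 = true := by decide +kernel
theorem x2_4 : T.prsChkJ (nat_lit 19) (nat_lit 4) Px2 = true := by decide +kernel
theorem x2_5 : T.prsChkJ (nat_lit 19) (nat_lit 5) Px2 = true := by decide +kernel
theorem x2_6 : T.prsChkJ (nat_lit 19) (nat_lit 6) Px2 = true := by decide +kernel
theorem x2_7 : T.prsChkJ (nat_lit 19) (nat_lit 7) Px2 = true := by decide +kernel
theorem x2_8 : T.prsChkJ (nat_lit 19) (nat_lit 8) Px2 = true := by decide +kernel
theorem x2_9 : T.prsChkJ (nat_lit 19) (nat_lit 9) Px2 = true := by decide +kernel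
theorem x2_10 : T.prsChkJ (nat_lit 19) (nat_lit 10) Px2 = true := by decide +kernel
theorem x2_11 : T.prsChkJ (nat_lit 19) (nat_lit 11) Px2 = true := by decide +kernel
theorem x2_12 : T.prsChkJ (nat_lit 19) (nat_lit 12) Px2 = true := by decide +kernel
theorem x2_13 : T.prsChkJ (nat_lit 19) (nat_lit 13) Px2 = true := by decide +kernel
theorem x2_14 : T.prsChkJ (nat_lit 19) (nat_lit 14) Px2 = true := by decide +kernel
theorem x2_15 : T.prsChkJ (nat_lit 19) (nat_lit 15) Px2 = true := by decide +kernel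
theorem x2_16 : T.prsChkJ (nat_lit 19) (nat_lit 16) Px2 = true := by decide +kernel
theorem x2_17 : T.prsChkJ (nat_lit 19) (nat_lit 17) Px2 = true := by decide +kernel
theorem x2_18 : T.prsChkJ (nat_lit 19) (nat_lit 18) Px2 = true := by decide +kernel
theorem x3_0 : T.prsChkJ (nat_lit 19) (nat_lit 0) Px3 = true := by decide +kernel
theorem x3_1 : T.prsChkJ (nat_lit 19) (nat_lit 1) Px3 = true := by decide +kernel
theorem x3_2 : T.prsChkJ (nat_lit 19) (nat_lit 2) Px3 = true := by decide +kernel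
theorem x3_3 : T.prsChkJ (nat_lit 19) (nat_lit 3) Px3 = true := by decide +kernel
theorem x3_4 : T.prsChkJ (nat_lit 19) (nat_lit 4) Px3 = true := by decide +kernel

end H15.YB.X2
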