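import Cfsg.Agent.H15.YB.X2.D

/-! Generated by tools/h15/yb.py. -/

set_option maxRecDepth 100000
set_option maxHeartbeats 0
set_option Elab.async false

namespace H15.YB.X2

open H16 H16.DC
open H26 (jn)

theorem x3_5 : T.prsChkJ (nat_lit 19) (nat_lit 5) Px3 = true := by decide +kernel
theorem x3_6 : T.prsChkJ (nat_lit 19) (nat_lit 6) Px3 = true := by decide +kernel
theorem x3_7 : T.prsChkJ (nat_lit 19) (nat_lit 7) Px3 = true := by decide +kernel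
theorem x3_8 : T.prsChkJ (nat_lit 19) (nat_lit 8) Px3 = true := by decide +kernel
theorem x3_9 : T.prsChkJ (nat_lit 19) (nat_lit 9) Px3 = true := by decide +kernel
theorem x3_10 : T.prsChkJ (nat_lit 19) (nat_lit 10) Px3 = true := by decide +kernel
theorem x3_11 : T.prsChkJ (nat_lit 19) (nat_lit 11) Px3 = true := by decide +kernel
theorem x3_12 : T.prsChkJ (nat_lit 19) (nat_lit 12) Px3 = true := by decide +kernel
theorem x3_13 : T.prsChkJ (nat_lit 19) (nat_lit 13) Px3 = true := by decide +kernel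
theorem x3_14 : T.prsChkJ (nat_lit 19) (nat_lit 14) Px3 = true := by decide +kernel
theorem x3_15 : T.prsChkJ (nat_lit 19) (nat_lit 15) Px3 = true := by decide +kernel
theorem x3_16 : T.prsChkJ (nat_lit 19) (nat_lit 16) Px3 = true := by decide +kernel
theorem x3_17 : T.prsChkJ (nat_lit 19) (nat_lit 17) Px3 = true := by decide +kernel
theorem x3_18 : T.prsChkJ (nat_lit 19) (nat_lit 18) Px3 = true := by decide +kernel
theorem x4_0 : T.prsChkJ (nat_lit 19) (nat_lit 0) Px4 = true := by decide +kernel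
theorem x4_1 : T.prsChkJ (nat_lit 19) (nat_lit 1) Px4 = true := by decide +kernel
theorem x4_2 : T.prsChkJ (nat_lit 19) (nat_lit 2) Px4 = true := by decide +kernel
theorem x4_3 : T.prsChkJ (nat_lit 19) (nat_lit 3) Px4 = true := by decide +kernel
theorem x4_4 : T.prsChkJ (nat_lit 19) (nat_lit 4) Px4 = true := by decide +kernel
theorem x4_5 : T.prsChkJ (nat_lit 19) (nat_lit 5) Px4 = true := by decide +kernel
theorem x4_6 : T.prsChkJ (nat_lit 19) (nat_lit 6) Px4 = true := by decide +kernel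
theorem x4_7 : T.prsChkJ (nat_lit 19) (nat_lit 7) Px4 = true := by decide +kernel
theorem x4_8 : T.prsChkJ (nat_lit 19) (nat_lit 8) Px4 = true := by decide +kernel
theorem x4_9 : T.prsChkJ (nat_lit 19) (nat_lit 9) Px4 = true := by decide +kernel
theorem x4_10 : T.prsChkJ (nat_lit 19) (nat_lit 10) Px4 = true := by decide +kernel
theorem x4_11 : T.prsChkJ (nat_lit 19) (nat_lit 11) Px4 = true := by decide +kernel
theorem x4_12 : T.prsChkJ (nat_lit 19) (nat_lit 12) Px4 = true := by decide +kernel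
theorem x4_13 : T.prsChkJ (nat_lit 19) (nat_lit 13) Px4 = true := by decide +kernel
theorem x4_14 : T.prsChkJ (nat_lit 19) (nat_lit 14) Px4 = true := by decide +kernel
theorem x4_15 : T.prsChkJ (nat_lit 19) (nat_lit 15) Px4 = true := by decide +kernel
theorem x4_16 : T.prsChkJ (nat_lit 19) (nat_lit 16) Px4 = true := by decide +kernel
theorem x4_17 : T.prsChkJ (nat_lit 19) (nat_lit 17) Px4 = true := by decide +kernel
theorem x4_18 : T.prsChkJ (nat_lit 19) (nat_lit 18) Px4 = true := by decide +kernel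
theorem ltc : allL (ltAll (nat_lit 10)) WN = true := by decide +kernel
theorem rtr_1 : reachX T (Nat.pow (nat_lit 3) (nat_lit 260116)) WN [nat_lit 0, nat_lit 1, nat_lit 2, nat_lit 3, nat_lit 4, nat_lit 5, nat_lit 7, nat_lit 3, nat_lit 8, nat_lit 6, nat_lit 9, nat_lit 2, nat_lit 1, nat_lit 4, nat_lit 3, nat_lit 5, nat_lit 7, nat_lit 3, nat_lit 8, nat_lit 0, nat_lit 4, nat_lit 5, nat_lit 3, nat_lit 2, nat_lit 1, nat_lit 3, nat_lit 6, nat_lit 5, nat_lit 9, nat_lit 0, nat_lit 7, nat_lit 8, nat_lit 3, nat_lit 2, nat_lit 3, nat_lit 1, nat_lit 4, nat_lit 3, nat_lit 5, nat_lit 7, nat_lit 3, nat_lit 8, nat_lit 2, nat_lit 3, nat_lit 1, nat_lit 4, nat_lit 3, nat_lit 5, nat_lit 6, nat_lit 5, nat_lit 9, nat_lit 7, nat_lit 3, nat_lit 8, nat_lit 2, nat_lit 1, nat_lit 3, nat_lit 0, nat_lit 4, nat_lit 3, nat_lit 5, nat_lit 7, nat_lit 3] (maskL [(nat_lit 0)]) = mtr_1 := by decide +kernel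
theorem rtr_2 : reachX T (Nat.pow (nat_lit 3) (nat_lit 260088)) WN [nat_lit 2, nat_lit 3, nat_lit 1, nat_lit 4, nat_lit 5, nat_lit 7, nat_lit 3, nat_lit 6, nat_lit 2, nat_lit 3, nat_lit 7, nat_lit 8, nat_lit 4, nat_lit 5, nat_lit 3, nat_lit 1, nat_lit 7, nat_lit 4, nat_lit 3, nat_lit 2, nat_lit 1, nat_lit 0] mtr_1 = (H26.full T.n) := by decide +kernel
theorem fx : fixS T [[nat_lit 1],
  [nat_lit 2],
  [nat_lit 3],
  [nat_lit 4],
  [nat_lit 5],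
  [nat_lit 6],
  [nat_lit 7],
  [nat_lit 8],
  [nat_lit 9]] [0] = true := by decide +kernel
theorem ivc : ivChk H26.F23.R0 (nat_lit 10) = true := by decide +kernel
theorem sbH : ∀ w ∈ VH, w ∈ WH ∨ ∃ d ∈ PR, d.1 = w ∧ d.2 ∈ WH := by decide +kernel
theorem rH0_1 : reachX T (Nat.pow (nat_lit 3) (nat_lit 260076)) (IH.map (flat VH)) [nat_lit 0, nat_lit 1, nat_lit 2, nat_lit 3, nat_lit 4, nat_lit 5, nat_lit 7, nat_lit 3, nat_lit 8, nat_lit 6, nat_lit 2, nat_lit 1, nat_lit 4, nat_lit 3, nat_lit 5, nat_lit 7, nat_lit 3, nat_lit 8, nat_lit 0, nat_lit 4, nat_lit 10, nat_lit 3, nat_lit 2, nat_lit 1, nat_lit 3, nat_lit 0, nat_lit 7, nat_lit 12, nat_lit 3, nat_lit 2, nat_lit 3, nat_lit 1, nat_lit 4, nat_lit 3, nat_lit 5, nat_lit 6, nat_lit 5, nat_lit 2, nat_lit 3, nat_lit 1, nat_lit 7, nat_lit 3, nat_lit 8, nat_lit 4, nat_lit 5, nat_lit 3, nat_lit 2, nat_lit 3, nat_lit 1, nat_lit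 6, nat_lit 4, nat_lit 10, nat_lit 2, nat_lit 3] (maskL [(nat_lit 0)]) = mH0_1 := by decide +kernel
theorem rH1_1 : reachX T (Nat.pow (nat_lit 3) (nat_lit 260120)) (IH.map (flat VH)) [nat_lit 3, nat_lit 0, nat_lit 1, nat_lit 4, nat_lit 3, nat_lit 5, nat_lit 6, nat_lit 5, nat_lit 7, nat_lit 3, nat_lit 8, nat_lit 2, nat_lit 3, nat_lit 1, nat_lit 4, nat_lit 3, nat_lit 5, nat_lit 7, nat_lit 8, nat_lit 3, nat_lit 2, nat_lit 3, nat_lit 1, nat_lit 0, nat_lit 4, nat_lit 5, nat_lit 11, nat_lit 3, nat_lit 2, nat_lit 3, nat_lit 1, nat_lit 4, nat_lit 5, nat_lit 3, nat_lit 6, nat_lit 5, nat_lit 13, nat_lit 3, nat_lit 8, nat_lit 4, nat_lit 5, nat_lit 2, nat_lit 1, nat_lit 0] (maskL [(nat_lit 264)]) = mH1_1 := by decide +kernel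
theorem rH2_1 : reachX T (Nat.pow (nat_lit 3) (nat_lit 260108)) (IH.map (flat VH)) [nat_lit 2, nat_lit 3, nat_lit 1, nat_lit 4, nat_lit 3, nat_lit 5, nat_lit 6, nat_lit 5, nat_lit 7, nat_lit 3, nat_lit 8, nat_lit 2, nat_lit 3, nat_lit 1, nat_lit 0, nat_lit 1, nat_lit 4, nat_lit 3, nat_lit 5, nat_lit 7, nat_lit 3, nat_lit 8, nat_lit 2, nat_lit 3, nat_lit 1, nat_lit 4, nat_lit 3, nat_lit 5, nat_lit 7, nat_lit 3, nat_lit 8, nat_lit 6, nat_lit 5, nat_lit 2, nat_lit 1, nat_lit 3, nat_lit 4, nat_lit 5, nat_lit 3, nat_lit 0, nat_lit 1, nat_lit 6, nat_lit 7, nat_lit 12, nat_lit 2, nat_lit 3, nat_lit 1, nat_lit 4, nat_lit 10, nat_lit 3, nat_lit 7, nat_lit 9, nat_lit 1, nat_lit 3, nat_lit 4, nat_lit 3, nat_lit 5, nat_lit 7, nat_lit 8, nat_lit 2, nat_lit 3] (maskL [(nat_lit 4)]) = mH2_1 := by decide +kernel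
theorem rH2_2 : reachX T (Nat.pow (nat_lit 3) (nat_lit 260117)) (IH.map (flat VH)) [nat_lit 7] mH2_1 = mH2_2 := by decide +kernel
theorem sbP : ∀ w ∈ VP, w ∈ WP ∨ ∃ d ∈ PR, d.1 = w ∧ d.2 ∈ WP := by decide +kernel
theorem rP0_1 : reachX T (Nat.pow (nat_lit 3) (nat_lit 260093)) (IP.map (flat VP)) [nat_lit 8, nat_lit 6, nat_lit 4, nat_lit 1, nat_lit 0, nat_lit 2, nat_lit 8, nat_lit 10, nat_lit 6, nat_lit 4, nat_lit 8, nat_lit 0, nat_lit 9] (maskL [(nat_lit 0)]) = mP0_1 := by decide +kernel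
theorem rP1_1 : reachX T (Nat.pow (nat_lit 3) (nat_lit 260076)) (IP.map (flat VP)) [nat_lit 0, nat_lit 7, nat_lit 0, nat_lit 8, nat_lit 2, nat_lit 6, nat_lit 0, nat_lit 4, nat_lit 8, nat_lit 0, nat_lit 2, nat_lit 6, nat_lit 4, nat_lit 8, nat_lit 0, nat_lit 9] (maskL [(nat_lit 272)]) = mP1_1 := by decide +kernel
theorem rP2_1 : reachX T (Nat.pow (nat_lit 3) (nat_lit 260096)) (IP.map (flat VP)) [nat_lit 3, nat_lit 2, nat_lit 4, nat_lit 5, nat_lit 0, nat_lit 6, nat_lit 8, nat_lit 2, nat_lit 0, nat_lit 6, nat_lit 4, nat_lit 8, nat_lit 0, nat_lit 6, nat_lit 2, nat_lit 4, nat_lit 8, nat_lit 0, nat_lit 2, nat_lit 6, nat_lit 4, nat_lit 8, nat_lit 0, nat_lit 2, nat_lit 6, nat_lit 4, nat_lit 8, nat_lit 10, nat_lit 4] (maskL [(nat_lit 1)]) = mP2_1 := by decide +kernel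
theorem rP3_1 : reachX T (Nat.pow (nat_lit 3) (nat_lit 260094)) (IP.map (flat VP)) [nat_lit 0, nat_lit 1, nat_lit 0, nat_lit 2, nat_lit 3, nat_lit 2, nat_lit 4, nat_lit 5, nat_lit 0, nat_lit 6, nat_lit 7, nat_lit 0, nat_lit 8, nat_lit 0, nat_lit 2, nat_lit 6, nat_lit 4, nat_lit 8, nat_lit 0, nat_lit 2, nat_lit 6, nat_lit 4, nat_lit 8, nat_lit 0, nat_lit 12, nat_lit 13, nat_lit 8, nat_lit 11] (maskL [(nat_lit 258)]) = mP3_1 := by decide +kernel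
theorem rP4_1 : reachX T (Nat.pow (nat_lit 3) (nat_lit 260083)) (IP.map (flat VP)) [nat_lit 1, nat_lit 0, nat_lit 2, nat_lit 3, nat_lit 2, nat_lit 4, nat_lit 5, nat_lit 0, nat_lit 6, nat_lit 7, nat_lit 0, nat_lit 8, nat_lit 2, nat_lit 6, nat_lit 0, nat_lit 4, nat_lit 8, nat_lit 0, nat_lit 2, nat_lit 6, nat_lit 4, nat_lit 8, nat_lit 0, nat_lit 2, nat_lit 6, nat_lit 4, nat_lit 8, nat_lit 0, nat_lit 13, nat_lit 12, nat_lit 1] (maskL [(nat_lit 14)]) = mP4_1 := by decide +kernel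
theorem sbA : ∀ w ∈ VA, w ∈ WA ∨ ∃ d ∈ PR, d.1 = w ∧ d.2 ∈ WA := by decide +kernel
theorem rA0_1 : reachX T (Nat.pow (nat_lit 3) (nat_lit 260100)) (IA.map (flat VA)) [nat_lit 8, nat_lit 5, nat_lit 4, nat_lit 7, nat_lit 8, nat_lit 1, nat_lit 4, nat_lit 8, nat_lit 1, nat_lit 7, nat_lit 6, nat_lit 5, nat_lit 7, nat_lit 8, nat_lit 5, nat_lit 13, nat_lit 1, nat_lit 9] (maskL [(nat_lit 0)]) = mA0_1 := by decide +kernel
theorem rA1_1 : reachX T (Nat.pow (nat_lit 3) (nat_lit 260111)) (IA.map (flat VA)) [nat_lit 8, nat_lit 5, nat_lit 1, nat_lit 4, nat_lit 7, nat_lit 8, nat_lit 5, nat_lit 1, nat_lit 4, nat_lit 7, nat_lit 8, nat_lit 5, nat_lit 1, nat_lit 7, nat_lit 4, nat_lit 6, nat_lit 14, nat_lit 8, nat_lit 13] (maskL [(nat_lit 264)]) = mA1_1 := by decide +kernel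
theorem rA2_1 : reachX T (Nat.pow (nat_lit 3) (nat_lit 260118)) (IA.map (flat VA)) [nat_lit 8, nat_lit 5, nat_lit 1, nat_lit 4, nat_lit 7, nat_lit 8, nat_lit 5, nat_lit 1, nat_lit 4, nat_lit 7, nat_lit 8, nat_lit 5, nat_lit 1, nat_lit 7, nat_lit 4, nat_lit 6, nat_lit 14, nat_lit 8, nat_lit 13] (maskL [(nat_lit 265)]) = mA2_1 := by decide +kernel
theorem rA3_1 : reachX T (Nat.pow (nat_lit 3) (nat_lit 260093)) (IA.map (flat VA)) [nat_lit 4, nat_lit 8, nat_lit 5, nat_lit 4, nat_lit 7, nat_lit 1, nat_lit 2, nat_lit 5, nat_lit 1, nat_lit 8, nat_lit 5, nat_lit 1, nat_lit 7, nat_lit 4, nat_lit 6, nat_lit 5, nat_lit 7, nat_lit 8, nat_lit 1, nat_lit 5, nat_lit 7, nat_lit 4, nat_lit 8, nat_lit 1, nat_lit 10] (maskL [(nat_lit 22)]) = mA3_1 := by decide +kernel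
theorem rA4_1 : reachX T (Nat.pow (nat_lit 3) (nat_lit 260123)) (IA.map (flat VA)) [nat_lit 7, nat_lit 8, nat_lit 5, nat_lit 1, nat_lit 7, nat_lit 4, nat_lit 2, nat_lit 5, nat_lit 1, nat_lit 8, nat_lit 5, nat_lit 1, nat_lit 7, nat_lit 4, nat_lit 3, nat_lit 5, nat_lit 4, nat_lit 8, nat_lit 4, nat_lit 1, nat_lit 6, nat_lit 5, nat_lit 7, nat_lit 8, nat_lit 4, nat_lit 7, nat_lit 11] (maskL [(nat_lit 1536)]) = mA4_1 := by decide +kernel
theorem rA5_1 : reachX T (Nat.pow (nat_lit 3) (nat_lit 260100)) (IA.map (flat VA)) [nat_lit 8, nat_lit 5, nat_lit 1, nat_lit 4, nat_lit 7, nat_lit 0, nat_lit 1, nat_lit 8, nat_lit 5, nat_lit 1, nat_lit 4, nat_lit 7, nat_lit 8, nat_lit 5, nat_lit 1, nat_lit 4, nat_lit 7, nat_lit 6, nat_lit 5, nat_lit 7, nat_lit 8, nat_lit 5, nat_lit 4, nat_lit 7, nat_lit 1, nat_lit 9, nat_lit 1, nat_lit 8] (maskL [(nat_lit 10)]) = mA5_1 := by decide +kernel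
theorem rA6_1 : reachX T (Nat.pow (nat_lit 3) (nat_lit 260097)) (IA.map (flat VA)) [nat_lit 8, nat_lit 5, nat_lit 1, nat_lit 4, nat_lit 7, nat_lit 0, nat_lit 1, nat_lit 8, nat_lit 5, nat_lit 1, nat_lit 4, nat_lit 7, nat_lit 6, nat_lit 5, nat_lit 7, nat_lit 8, nat_lit 5, nat_lit 1, nat_lit 4, nat_lit 7, nat_lit 8, nat_lit 1, nat_lit 5, nat_lit 7, nat_lit 4, nat_lit 9] (maskL [(nat_lit 256)]) = mA6_1 := by decide +kernel
theorem rA7_1 : reachX T (Nat.pow (nat_lit 3) (nat_lit 260086)) (IA.map (flat VA)) [nat_lit 8, nat_lit 5, nat_lit 1, nat_lit 4, nat_lit 7, nat_lit 0, nat_lit 1, nat_lit 8, nat_lit 5, nat_lit 1, nat_lit 4, nat_lit 7, nat_lit 6, nat_lit 5, nat_lit 7, nat_lit 8, nat_lit 5, nat_lit 1, nat_lit 4, nat_lit 7, nat_lit 8, nat_lit 1, nat_lit 5, nat_lit 7, nat_lit 4, nat_lit 9] (maskL [(nat_lit 257)]) = mA7_1 := by decide +kernel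
theorem rA8_1 : reachX T (Nat.pow (nat_lit 3) (nat_lit 260076)) (IA.map (flat VA)) [nat_lit 1, nat_lit 4, nat_lit 8, nat_lit 5, nat_lit 1, nat_lit 4, nat_lit 7, nat_lit 0, nat_lit 1, nat_lit 3, nat_lit 5, nat_lit 4, nat_lit 8, nat_lit 5, nat_lit 4, nat_lit 7, nat_lit 6, nat_lit 5, nat_lit 7, nat_lit 8, nat_lit 1, nat_lit 4, nat_lit 7, nat_lit 5, nat_lit 8, nat_lit 1, nat_lit 8, nat_lit 5, nat_lit 12, nat_lit 7, nat_lit 8, nat_lit 4, nat_lit 1, nat_lit 9] (maskL [(nat_lit 1088)]) = mA8_1 := by decide +kernel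
theorem sbO : ∀ w ∈ VO, w ∈ WO ∨ ∃ d ∈ PR, d.1 = w ∧ d.2 ∈ WO := by decide +kernel
theorem rO3_1 : reachX T (Nat.pow (nat_lit 3) (nat_lit 260075)) (IO.map (flat VO)) [nat_lit 6, nat_lit 1, nat_lit 3, nat_lit 6, nat_lit 1, nat_lit 3, nat_lit 0, nat_lit 1, nat_lit 3, nat_lit 6, nat_lit 1, nat_lit 3, nat_lit 5, nat_lit 1, nat_lit 6, nat_lit 1, nat_lit 3, nat_lit 4, nat_lit 1, nat_lit 6, nat_lit 1, nat_lit 3, nat_lit 6, nat_lit 1, nat_lit 6] (maskL [(nat_lit 0)]) = mO3_1 := by decide +kernel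
theorem rO4_1 : reachX T (Nat.pow (nat_lit 3) (nat_lit 260124)) (IO.map (flat VO)) [nat_lit 6, nat_lit 1, nat_lit 3, nat_lit 0, nat_lit 1, nat_lit 3, nat_lit 6, nat_lit 1, nat_lit 3, nat_lit 5, nat_lit 1, nat_lit 6, nat_lit 1, nat_lit 3, nat_lit 4, nat_lit 1, nat_lit 6, nat_lit 1, nat_lit 3, nat_lit 0, nat_lit 1, nat_lit 3, nat_lit 6, nat_lit 1, nat_lit 6] (maskL [(nat_lit 270)]) = mO4_1 := by decide +kernel
theorem rO5_1 : reachX T (Nat.pow (nat_lit 3) (nat_lit 260080)) (IO.map (flat VO)) [nat_lit 6, nat_lit 1, nat_lit 3, nat_lit 0, nat_lit 1, nat_lit 3, nat_lit 6, nat_lit 1, nat_lit 3, nat_lit 5, nat_lit 1, nat_lit 6, nat_lit 1, nat_lit 3, nat_lit 4, nat_lit 1, nat_lit 6, nat_lit 1, nat_lit 3, nat_lit 0, nat_lit 1, nat_lit 3, nat_lit 6, nat_lit 1, nat_lit 6] (maskL [(nat_lit 271)]) = mO5_1 := by decide +kernel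
theorem rO6_1 : reachX T (Nat.pow (nat_lit 3) (nat_lit 260096)) (IO.map (flat VO)) [nat_lit 3, nat_lit 6, nat_lit 1, nat_lit 3, nat_lit 0, nat_lit 1, nat_lit 3, nat_lit 5, nat_lit 1, nat_lit 6, nat_lit 1, nat_lit 3, nat_lit 2, nat_lit 1, nat_lit 3, nat_lit 6, nat_lit 1, nat_lit 3, nat_lit 0, nat_lit 1, nat_lit 3, nat_lit 6, nat_lit 1, nat_lit 3, nat_lit 6] (maskL [(nat_lit 86)]) = mO6_1 := by decide +kernel
theorem rO7_1 : reachX T (Nat.pow (nat_lit 3) (nat_lit 260107)) (IO.map (flat VO)) [nat_lit 6, nat_lit 1, nat_lit 3, nat_lit 0, nat_lit 1, nat_lit 3, nat_lit 2, nat_lit 1, nat_lit 3, nat_lit 6, nat_lit 1, nat_lit 3, nat_lit 5, nat_lit 1, nat_lit 6, nat_lit 1, nat_lit 3, nat_lit 4, nat_lit 1, nat_lit 6, nat_lit 1, nat_lit 3, nat_lit 0, nat_lit 1, nat_lit 3, nat_lit 6, nat_lit 1, nat_lit 3, nat_lit 6] (maskL [(nat_lit 2)]) = mO7_1 := by decide +kernel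
theorem sbT : ∀ w ∈ VT, w ∈ WT ∨ ∃ d ∈ PR, d.1 = w ∧ d.2 ∈ WT := by decide +kernel
theorem rT0_1 : reachX T (Nat.pow (nat_lit 3) (nat_lit 260078)) (IT.map (flat VT)) [nat_lit 0, nat_lit 5, nat_lit 0, nat_lit 2, nat_lit 6, nat_lit 2, nat_lit 1, nat_lit 3, nat_lit 5, nat_lit 1, nat_lit 6, nat_lit 5, nat_lit 6, nat_lit 5, nat_lit 6, nat_lit 5, nat_lit 6, nat_lit 7, nat_lit 5] (maskL [(nat_lit 18)]) = mT0_1 := by decide +kernel
theorem rT1_1 : reachX T (Nat.pow (nat_lit 3) (nat_lit 260110)) (IT.map (flat VT)) [nat_lit 5, nat_lit 0, nat_lit 1, nat_lit 2, nat_lit 6, nat_lit 1, nat_lit 5, nat_lit 0, nat_lit 6, nat_lit 2, nat_lit 5, nat_lit 1, nat_lit 6, nat_lit 5, nat_lit 0, nat_lit 6, nat_lit 5, nat_lit 6, nat_lit 5, nat_lit 6, nat_lit 5, nat_lit 7] (maskL [(nat_lit 0)]) = mT1_1 := by decide +kernel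
theorem rT2_1 : reachX T (Nat.pow (nat_lit 3) (nat_lit 260087)) (IT.map (flat VT)) [nat_lit 0, nat_lit 4, nat_lit 5, nat_lit 0, nat_lit 1, nat_lit 2, nat_lit 6, nat_lit 5, nat_lit 6, nat_lit 5, nat_lit 6, nat_lit 5, nat_lit 6, nat_lit 5, nat_lit 6, nat_lit 5, nat_lit 6, nat_lit 8] (maskL [(nat_lit 1656)]) = mT2_1 := by decide +kernel
theorem rT3_1 : reachX T (Nat.pow (nat_lit 3) (nat_lit 260118)) (IT.map (flat VT)) [nat_lit 0, nat_lit 5, nat_lit 0, nat_lit 1, nat_lit 2, nat_lit 6, nat_lit 1, nat_lit 5, nat_lit 0, nat_lit 6, nat_lit 2, nat_lit 5, nat_lit 1, nat_lit 6, nat_lit 5, nat_lit 0, nat_lit 6, nat_lit 5, nat_lit 6, nat_lit 5, nat_lit 6, nat_lit 5, nat_lit 7] (maskL [(nat_lit 256)]) = mT3_1 := by decide +kernel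
theorem rT4_1 : reachX T (Nat.pow (nat_lit 3) (nat_lit 260104)) (IT.map (flat VT)) [nat_lit 0, nat_lit 1, nat_lit 2, nat_lit 4, nat_lit 5, nat_lit 0, nat_lit 1, nat_lit 2, nat_lit 6, nat_lit 1, nat_lit 2, nat_lit 5, nat_lit 0, nat_lit 1, nat_lit 2, nat_lit 6, nat_lit 5, nat_lit 7, nat_lit 5] (maskL [(nat_lit 14976)]) = mT4_1 := by decide +kernel
theorem rT5_1 : reachX T (Nat.pow (nat_lit 3) (nat_lit 260123)) (IT.map (flat VT)) [nat_lit 0, nat_lit 1, nat_lit 2, nat_lit 3, nat_lit 4, nat_lit 5, nat_lit 1, nat_lit 2, nat_lit 6, nat_lit 2, nat_lit 1, nat_lit 3, nat_lit 5, nat_lit 0, nat_lit 1, nat_lit 2, nat_lit 6, nat_lit 5, nat_lit 6, nat_lit 5, nat_lit 5] (maskL [(nat_lit 83200)]) = mT5_1 := by decide +kernel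
theorem rT6_1 : reachX T (Nat.pow (nat_lit 3) (nat_lit 260123)) (IT.map (flat VT)) [nat_lit 0, nat_lit 1, nat_lit 3, nat_lit 5, nat_lit 0, nat_lit 1, nat_lit 2, nat_lit 6, nat_lit 1, nat_lit 2, nat_lit 3, nat_lit 5, nat_lit 0, nat_lit 1, nat_lit 2, nat_lit 6, nat_lit 5, nat_lit 6, nat_lit 5, nat_lit 6, nat_lit 5, nat_lit 6, nat_lit 5, nat_lit 6, nat_lit 5] (maskL [(nat_lit 2368)]) = mT6_1 := by decide +kernel
theorem rT7_1 : reachX T (Nat.pow (nat_lit 3) (nat_lit 260123)) (IT.map (flat VT)) [nat_lit 0, nat_lit 2, nat_lit 3, nat_lit 4, nat_lit 5, nat_lit 0, nat_lit 1, nat_lit 2, nat_lit 6, nat_lit 1, nat_lit 2, nat_lit 3, nat_lit 5, nat_lit 0, nat_lit 1, nat_lit 2, nat_lit 6, nat_lit 5, nat_lit 6, nat_lit 5, nat_lit 6, nat_lit 5, nat_lit 6, nat_lit 5, nat_lit 6, nat_lit 7] (maskL [(nat_lit 36704)]) = mT7_1 := by decide +kernel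

end H15.YB.X2
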