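import Cfsg.Agent.H15.YB.X2.D

/-! Generated by tools/h15/yb.py. -/

set_option maxRecDepth 100000
set_option maxHeartbeats 0
set_option Elab.async false

namespace H15.YB.X2

open H16 H16.DC
open H26 (jn)

theorem wf_0 : n0.wf (nat_lit 412896) = true := by decide +kernel
theorem wf_1 : n1.wf (nat_lit 412896) = true := by decide +kernel
theorem wf_2 : n2.wf (nat_lit 412896) = true := by decide +kernel
theorem wf_3 : n3.wf (nat_lit 412896) = true := by decide +kernel
theorem wf_4 : n4.wf (nat_lit 412896) = true := by decide +kernel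
theorem wf_5 : n5.wf (nat_lit 412896) = true := by decide +kernel
theorem wf_6 : n6.wf (nat_lit 412896) = true := by decide +kernel
theorem wf_7 : n7.wf (nat_lit 412896) = true := by decide +kernel
theorem wf_8 : n8.wf (nat_lit 412896) = true := by decide +kernel
theorem wf_9 : n9.wf (nat_lit 412896) = true := by decide +kernel
theorem wf_10 : n10.wf (nat_lit 412896) = true := by decide +kernel
theorem wf_11 : n11.wf (nat_lit 412896) = true := by decide +kernel
theorem wf_12 : n12.wf (nat_lit 412896) = true := by decide +kernel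
theorem wf_13 : n13.wf (nat_lit 412896) = true := by decide +kernel
theorem wf_14 : n14.wf (nat_lit 412896) = true := by decide +kernel
theorem lgc : T.n ≤ 2 ^ (nat_lit 19) := by decide +kernel
theorem g0_0 : T0.prsChkJ (nat_lit 19) (nat_lit 0) Pg0 = true := by decide +kernel
theorem g0_1 : T0.prsChkJ (nat_lit 19) (nat_lit 1) Pg0 = true := by decide +kernel
theorem g0_2 : T0.prsChkJ (nat_lit 19) (nat_lit 2) Pg0 = true := by decide +kernel
theorem g0_3 : T0.prsChkJ (nat_lit 19) (nat_lit 3) Pg0 = true := by decide +kernel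
theorem g0_4 : T0.prsChkJ (nat_lit 19) (nat_lit 4) Pg0 = true := by decide +kernel
theorem g0_5 : T0.prsChkJ (nat_lit 19) (nat_lit 5) Pg0 = true := by decide +kernel
theorem g0_6 : T0.prsChkJ (nat_lit 19) (nat_lit 6) Pg0 = true := by decide +kernel
theorem g0_7 : T0.prsChkJ (nat_lit 19) (nat_lit 7) Pg0 = true := by decide +kernel
theorem g0_8 : T0.prsChkJ (nat_lit 19) (nat_lit 8) Pg0 = true := by decide +kernel
theorem g0_9 : T0.prsChkJ (nat_lit 19) (nat_lit 9) Pg0 = true := by decide +kernel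
theorem g0_10 : T0.prsChkJ (nat_lit 19) (nat_lit 10) Pg0 = true := by decide +kernel
theorem g0_11 : T0.prsChkJ (nat_lit 19) (nat_lit 11) Pg0 = true := by decide +kernel
theorem g0_12 : T0.prsChkJ (nat_lit 19) (nat_lit 12) Pg0 = true := by decide +kernel
theorem g0_13 : T0.prsChkJ (nat_lit 19) (nat_lit 13) Pg0 = true := by decide +kernel
theorem g0_14 : T0.prsChkJ (nat_lit 19) (nat_lit 14) Pg0 = true := by decide +kernel
theorem g0_15 : T0.prsChkJ (nat_lit 19) (nat_lit 15) Pg0 = true := by decide +kernel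
theorem g0_16 : T0.prsChkJ (nat_lit 19) (nat_lit 16) Pg0 = true := by decide +kernel
theorem g0_17 : T0.prsChkJ (nat_lit 19) (nat_lit 17) Pg0 = true := by decide +kernel
theorem g0_18 : T0.prsChkJ (nat_lit 19) (nat_lit 18) Pg0 = true := by decide +kernel
theorem g1_0 : T0.prsChkJ (nat_lit 19) (nat_lit 0) Pg1 = true := by decide +kernel
theorem g1_1 : T0.prsChkJ (nat_lit 19) (nat_lit 1) Pg1 = true := by decide +kernel
theorem g1_2 : T0.prsChkJ (nat_lit 19) (nat_lit 2) Pg1 = true := by decide +kernel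
theorem g1_3 : T0.prsChkJ (nat_lit 19) (nat_lit 3) Pg1 = true := by decide +kernel
theorem g1_4 : T0.prsChkJ (nat_lit 19) (nat_lit 4) Pg1 = true := by decide +kernel
theorem g1_5 : T0.prsChkJ (nat_lit 19) (nat_lit 5) Pg1 = true := by decide +kernel
theorem g1_6 : T0.prsChkJ (nat_lit 19) (nat_lit 6) Pg1 = true := by decide +kernel
theorem g1_7 : T0.prsChkJ (nat_lit 19) (nat_lit 7) Pg1 = true := by decide +kernel
theorem g1_8 : T0.prsChkJ (nat_lit 19) (nat_lit 8) Pg1 = true := by decide +kernel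
theorem g1_9 : T0.prsChkJ (nat_lit 19) (nat_lit 9) Pg1 = true := by decide +kernel
theorem g1_10 : T0.prsChkJ (nat_lit 19) (nat_lit 10) Pg1 = true := by decide +kernel
theorem g1_11 : T0.prsChkJ (nat_lit 19) (nat_lit 11) Pg1 = true := by decide +kernel
theorem g1_12 : T0.prsChkJ (nat_lit 19) (nat_lit 12) Pg1 = true := by decide +kernel
theorem g1_13 : T0.prsChkJ (nat_lit 19) (nat_lit 13) Pg1 = true := by decide +kernel
theorem g1_14 : T0.prsChkJ (nat_lit 19) (nat_lit 14) Pg1 = true := by decide +kernel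
theorem g1_15 : T0.prsChkJ (nat_lit 19) (nat_lit 15) Pg1 = true := by decide +kernel
theorem g1_16 : T0.prsChkJ (nat_lit 19) (nat_lit 16) Pg1 = true := by decide +kernel
theorem g1_17 : T0.prsChkJ (nat_lit 19) (nat_lit 17) Pg1 = true := by decide +kernel
theorem g1_18 : T0.prsChkJ (nat_lit 19) (nat_lit 18) Pg1 = true := by decide +kernel
theorem g2_0 : T0.prsChkJ (nat_lit 19) (nat_lit 0) Pg2 = true := by decide +kernel
theorem g2_1 : T0.prsChkJ (nat_lit 19) (nat_lit 1) Pg2 = true := by decide +kernel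
theorem g2_2 : T0.prsChkJ (nat_lit 19) (nat_lit 2) Pg2 = true := by decide +kernel
theorem g2_3 : T0.prsChkJ (nat_lit 19) (nat_lit 3) Pg2 = true := by decide +kernel
theorem g2_4 : T0.prsChkJ (nat_lit 19) (nat_lit 4) Pg2 = true := by decide +kernel
theorem g2_5 : T0.prsChkJ (nat_lit 19) (nat_lit 5) Pg2 = true := by decide +kernel
theorem g2_6 : T0.prsChkJ (nat_lit 19) (nat_lit 6) Pg2 = true := by decide +kernel
theorem g2_7 : T0.prsChkJ (nat_lit 19) (nat_lit 7) Pg2 = true := by decide +kernel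
theorem g2_8 : T0.prsChkJ (nat_lit 19) (nat_lit 8) Pg2 = true := by decide +kernel
theorem g2_9 : T0.prsChkJ (nat_lit 19) (nat_lit 9) Pg2 = true := by decide +kernel
theorem g2_10 : T0.prsChkJ (nat_lit 19) (nat_lit 10) Pg2 = true := by decide +kernel
theorem g2_11 : T0.prsChkJ (nat_lit 19) (nat_lit 11) Pg2 = true := by decide +kernel
theorem g2_12 : T0.prsChkJ (nat_lit 19) (nat_lit 12) Pg2 = true := by decide +kernel
theorem g2_13 : T0.prsChkJ (nat_lit 19) (nat_lit 13) Pg2 = true := by decide +kernel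
theorem g2_14 : T0.prsChkJ (nat_lit 19) (nat_lit 14) Pg2 = true := by decide +kernel
theorem g2_15 : T0.prsChkJ (nat_lit 19) (nat_lit 15) Pg2 = true := by decide +kernel
theorem g2_16 : T0.prsChkJ (nat_lit 19) (nat_lit 16) Pg2 = true := by decide +kernel
theorem g2_17 : T0.prsChkJ (nat_lit 19) (nat_lit 17) Pg2 = true := by decide +kernel
theorem g2_18 : T0.prsChkJ (nat_lit 19) (nat_lit 18) Pg2 = true := by decide +kernel
theorem g3_0 : T0.prsChkJ (nat_lit 19) (nat_lit 0) Pg3 = true := by decide +kernel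
theorem g3_1 : T0.prsChkJ (nat_lit 19) (nat_lit 1) Pg3 = true := by decide +kernel
theorem g3_2 : T0.prsChkJ (nat_lit 19) (nat_lit 2) Pg3 = true := by decide +kernel
theorem g3_3 : T0.prsChkJ (nat_lit 19) (nat_lit 3) Pg3 = true := by decide +kernel
theorem g3_4 : T0.prsChkJ (nat_lit 19) (nat_lit 4) Pg3 = true := by decide +kernel
theorem g3_5 : T0.prsChkJ (nat_lit 19) (nat_lit 5) Pg3 = true := by decide +kernel
theorem g3_6 : T0.prsChkJ (nat_lit 19) (nat_lit 6) Pg3 = true := by decide +kernel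
theorem g3_7 : T0.prsChkJ (nat_lit 19) (nat_lit 7) Pg3 = true := by decide +kernel
theorem g3_8 : T0.prsChkJ (nat_lit 19) (nat_lit 8) Pg3 = true := by decide +kernel
theorem g3_9 : T0.prsChkJ (nat_lit 19) (nat_lit 9) Pg3 = true := by decide +kernel
theorem g3_10 : T0.prsChkJ (nat_lit 19) (nat_lit 10) Pg3 = true := by decide +kernel
theorem g3_11 : T0.prsChkJ (nat_lit 19) (nat_lit 11) Pg3 = true := by decide +kernel
theorem g3_12 : T0.prsChkJ (nat_lit 19) (nat_lit 12) Pg3 = true := by decide +kernel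
theorem g3_13 : T0.prsChkJ (nat_lit 19) (nat_lit 13) Pg3 = true := by decide +kernel
theorem g3_14 : T0.prsChkJ (nat_lit 19) (nat_lit 14) Pg3 = true := by decide +kernel
theorem g3_15 : T0.prsChkJ (nat_lit 19) (nat_lit 15) Pg3 = true := by decide +kernel
theorem g3_16 : T0.prsChkJ (nat_lit 19) (nat_lit 16) Pg3 = true := by decide +kernel
theorem g3_17 : T0.prsChkJ (nat_lit 19) (nat_lit 17) Pg3 = true := by decide +kernel
theorem g3_18 : T0.prsChkJ (nat_lit 19) (nat_lit 18) Pg3 = true := by decide +kernel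
theorem g4_0 : T0.prsChkJ (nat_lit 19) (nat_lit 0) Pg4 = true := by decide +kernel
theorem g4_1 : T0.prsChkJ (nat_lit 19) (nat_lit 1) Pg4 = true := by decide +kernel

end H15.YB.X2
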