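import Cfsg.Agent.H15.YB.G0
import Cfsg.Agent.H15.YB.X2.R0
import Cfsg.Agent.H15.YB.X2.R1
import Cfsg.Agent.H15.YB.X2.R2
import Cfsg.Agent.H15.YB.X2.R3
import Cfsg.Agent.H15.YB.X2.R4
import Cfsg.Agent.H15.YB.X2.R5
import Cfsg.Agent.H15.YB.X2.R6

/-! Generated by tools/h15/yb.py. -/

set_option maxRecDepth 100000
set_option maxHeartbeats 0
set_option Elab.async false

namespace H15.YB.X2

open H16 H16.DC
open H26 (jn)

noncomputable def n0 : H26.Net := H26.Net.cons (nat_lit 1) n0_0 (H26.Net.cons (nat_lit 2) n0_1 (H26.Net.cons (nat_lit 4) n0_2 (H26.Net.cons (nat_lit 8) n0_3 (H26.Net.cons (nat_lit 16) n0_4 (H26.Net.cons (nat_lit 32) n0_5 (H26.Net.cons (nat_lit 64) n0_6 (H26.Net.cons (nat_lit 128) n0_7 (H26.Net.cons (nat_lit 256) n0_8 (H26.Net.cons (nat_lit 512) n0_9 (H26.Net.cons (nat_lit 1024) n0_10 (H26.Net.cons (nat_lit 2048) n0_11 (H26.Net.cons (nat_lit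 4096) n0_12 (H26.Net.cons (nat_lit 8192) n0_13 (H26.Net.cons (nat_lit 16384) n0_14 (H26.Net.cons (nat_lit 32768) n0_15 (H26.Net.cons (nat_lit 65536) n0_16 (H26.Net.cons (nat_lit 131072) n0_17 (H26.Net.cons (nat_lit 262144) n0_18 (H26.Net.cons (nat_lit 131072) n0_19 (H26.Net.cons (nat_lit 65536) n0_20 (H26.Net.cons (nat_lit 32768) n0_21 (H26.Net.cons (nat_lit 16384) n0_22 (H26.Net.cons (nat_lit 8192) n0_23 (H26.Net.cons (nat_lit 4096) n0_24 (H26.Net.cons (nat_lit 2048) n0_25 (H26.Net.cons (nat_lit 1024) n0_26 (H26.Net.cons (nat_lit 512) n0_27 (H26.Net.cons (nat_lit 256) n0_28 (H26.Net.cons (nat_lit 128) n0_29 (H26.Net.cons (nat_lit 64) n0_30 (H26.Net.cons (nat_lit 32) n0_31 (H26.Net.cons (nat_lit 16) n0_32 (H26.Net.cons (nat_lit 8) n0_33 (H26.Net.cons (nat_lit 4) n0_34 (H26.Net.cons (nat_lit 2) n0_35 (H26.Net.cons (nat_lit 1) n0_36 (H26.Net.nil)))))))))))))))))))))))))))))))))))))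
noncomputable def n1 : H26.Net := H26.Net.cons (nat_lit 4) n1_0 (H26.Net.cons (nat_lit 2) n1_1 (H26.Net.cons (nat_lit 1) n1_2 (H26.Net.nil)))
noncomputable def n2 : H26.Net := H26.Net.cons (nat_lit 1) n2_0 (H26.Net.cons (nat_lit 2) n2_1 (H26.Net.cons (nat_lit 4) n2_2 (H26.Net.cons (nat_lit 8) n2_3 (H26.Net.cons (nat_lit 16) n2_4 (H26.Net.cons (nat_lit 32) n2_5 (H26.Net.cons (nat_lit 64) n2_6 (H26.Net.cons (nat_lit 128) n2_7 (H26.Net.cons (nat_lit 256) n2_8 (H26.Net.cons (nat_lit 512) n2_9 (H26.Net.cons (nat_lit 1024) n2_10 (H26.Net.cons (nat_lit 2048) n2_11 (H26.Net.cons (nat_lit 4096) n2_12 (H26.Net.cons (nat_lit 8192) n2_13 (H26.Net.cons (nat_lit 16384) n2_14 (H26.Net.cons (nat_lit 32768) n2_15 (H26.Net.cons (nat_lit 65536) n2_16 (H26.Net.cons (nat_lit 131072) n2_17 (H26.Net.cons (nat_lit 262144) n2_18 (H26.Net.cons (nat_lit 131072) n2_19 (H26.Net.cons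 (nat_lit 65536) n2_20 (H26.Net.cons (nat_lit 32768) n2_21 (H26.Net.cons (nat_lit 16384) n2_22 (H26.Net.cons (nat_lit 8192) n2_23 (H26.Net.cons (nat_lit 4096) n2_24 (H26.Net.cons (nat_lit 2048) n2_25 (H26.Net.cons (nat_lit 1024) n2_26 (H26.Net.cons (nat_lit 512) n2_27 (H26.Net.cons (nat_lit 256) n2_28 (H26.Net.cons (nat_lit 128) n2_29 (H26.Net.cons (nat_lit 64) n2_30 (H26.Net.cons (nat_lit 32) n2_31 (H26.Net.cons (nat_lit 16) n2_32 (H26.Net.cons (nat_lit 8) n2_33 (H26.Net.cons (nat_lit 4) n2_34 (H26.Net.cons (nat_lit 2) n2_35 (H26.Net.cons (nat_lit 1) n2_36 (H26.Net.nil)))))))))))))))))))))))))))))))))))))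
noncomputable def n3 : H26.Net := H26.Net.cons (nat_lit 1) n3_0 (H26.Net.nil)
noncomputable def n4 : H26.Net := H26.Net.cons (nat_lit 1) n4_0 (H26.Net.cons (nat_lit 2) n4_1 (H26.Net.cons (nat_lit 4) n4_2 (H26.Net.cons (nat_lit 8) n4_3 (H26.Net.cons (nat_lit 16) n4_4 (H26.Net.cons (nat_lit 32) n4_5 (H26.Net.cons (nat_lit 64) n4_6 (H26.Net.cons (nat_lit 128) n4_7 (H26.Net.cons (nat_lit 256) n4_8 (H26.Net.cons (nat_lit 512) n4_9 (H26.Net.cons (nat_lit 1024) n4_10 (H26.Net.cons (nat_lit 2048) n4_11 (H26.Net.cons (nat_lit 4096) n4_12 (H26.Net.cons (nat_lit 8192) n4_13 (H26.Net.cons (nat_lit 16384) n4_14 (H26.Net.cons (nat_lit 32768) n4_15 (H26.Net.cons (nat_lit 65536) n4_16 (H26.Net.cons (nat_lit 131072) n4_17 (H26.Net.cons (nat_lit 262144) n4_18 (H26.Net.cons (nat_lit 131072) n4_19 (H26.Net.cons (nat_lit 65536) n4_20 (H26.Net.cons (nat_lit 32768) n4_21 (H26.Net.cons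 (nat_lit 16384) n4_22 (H26.Net.cons (nat_lit 8192) n4_23 (H26.Net.cons (nat_lit 4096) n4_24 (H26.Net.cons (nat_lit 2048) n4_25 (H26.Net.cons (nat_lit 1024) n4_26 (H26.Net.cons (nat_lit 512) n4_27 (H26.Net.cons (nat_lit 256) n4_28 (H26.Net.cons (nat_lit 128) n4_29 (H26.Net.cons (nat_lit 64) n4_30 (H26.Net.cons (nat_lit 32) n4_31 (H26.Net.cons (nat_lit 16) n4_32 (H26.Net.cons (nat_lit 8) n4_33 (H26.Net.cons (nat_lit 4) n4_34 (H26.Net.cons (nat_lit 2) n4_35 (H26.Net.cons (nat_lit 1) n4_36 (H26.Net.nil)))))))))))))))))))))))))))))))))))))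
noncomputable def n5 : H26.Net := H26.Net.cons (nat_lit 2) n5_0 (H26.Net.cons (nat_lit 1) n5_1 (H26.Net.nil))
noncomputable def n6 : H26.Net := H26.Net.cons (nat_lit 1) n6_0 (H26.Net.cons (nat_lit 2) n6_1 (H26.Net.cons (nat_lit 4) n6_2 (H26.Net.cons (nat_lit 8) n6_3 (H26.Net.cons (nat_lit 16) n6_4 (H26.Net.cons (nat_lit 32) n6_5 (H26.Net.cons (nat_lit 64) n6_6 (H26.Net.cons (nat_lit 128) n6_7 (H26.Net.cons (nat_lit 256) n6_8 (H26.Net.cons (nat_lit 512) n6_9 (H26.Net.cons (nat_lit 1024) n6_10 (H26.Net.cons (nat_lit 2048) n6_11 (H26.Net.cons (nat_lit 4096) n6_12 (H26.Net.cons (nat_lit 8192) n6_13 (H26.Net.cons (nat_lit 16384) n6_14 (H26.Net.cons (nat_lit 32768) n6_15 (H26.Net.cons (nat_lit 65536) n6_16 (H26.Net.cons (nat_lit 131072) n6_17 (H26.Net.cons (nat_lit 262144) n6_18 (H26.Net.cons (nat_lit 131072) n6_19 (H26.Net.cons (nat_lit 65536) n6_20 (H26.Net.cons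 (nat_lit 32768) n6_21 (H26.Net.cons (nat_lit 16384) n6_22 (H26.Net.cons (nat_lit 8192) n6_23 (H26.Net.cons (nat_lit 4096) n6_24 (H26.Net.cons (nat_lit 2048) n6_25 (H26.Net.cons (nat_lit 1024) n6_26 (H26.Net.cons (nat_lit 512) n6_27 (H26.Net.cons (nat_lit 256) n6_28 (H26.Net.cons (nat_lit 128) n6_29 (H26.Net.cons (nat_lit 64) n6_30 (H26.Net.cons (nat_lit 32) n6_31 (H26.Net.cons (nat_lit 16) n6_32 (H26.Net.cons (nat_lit 8) n6_33 (H26.Net.cons (nat_lit 4) n6_34 (H26.Net.cons (nat_lit 2) n6_35 (H26.Net.cons (nat_lit 1) n6_36 (H26.Net.nil)))))))))))))))))))))))))))))))))))))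
noncomputable def n7 : H26.Net := H26.Net.cons (nat_lit 1) n7_0 (H26.Net.cons (nat_lit 2) n7_1 (H26.Net.cons (nat_lit 4) n7_2 (H26.Net.cons (nat_lit 8) n7_3 (H26.Net.cons (nat_lit 16) n7_4 (H26.Net.cons (nat_lit 32) n7_5 (H26.Net.cons (nat_lit 64) n7_6 (H26.Net.cons (nat_lit 128) n7_7 (H26.Net.cons (nat_lit 256) n7_8 (H26.Net.cons (nat_lit 512) n7_9 (H26.Net.cons (nat_lit 1024) n7_10 (H26.Net.cons (nat_lit 2048) n7_11 (H26.Net.cons (nat_lit 4096) n7_12 (H26.Net.cons (nat_lit 8192) n7_13 (H26.Net.cons (nat_lit 16384) n7_14 (H26.Net.cons (nat_lit 32768) n7_15 (H26.Net.cons (nat_lit 65536) n7_16 (H26.Net.cons (nat_lit 131072) n7_17 (H26.Net.cons (nat_lit 262144) n7_18 (H26.Net.cons (nat_lit 131072) n7_19 (H26.Net.cons (nat_lit 65536) n7_20 (H26.Net.cons (nat_lit 32768) n7_21 (H26.Net.cons (nat_lit 16384) n7_22 (H26.Net.cons (nat_lit 8192) n7_23 (H26.Net.cons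 (nat_lit 4096) n7_24 (H26.Net.cons (nat_lit 2048) n7_25 (H26.Net.cons (nat_lit 1024) n7_26 (H26.Net.cons (nat_lit 512) n7_27 (H26.Net.cons (nat_lit 256) n7_28 (H26.Net.cons (nat_lit 128) n7_29 (H26.Net.cons (nat_lit 64) n7_30 (H26.Net.cons (nat_lit 32) n7_31 (H26.Net.cons (nat_lit 16) n7_32 (H26.Net.cons (nat_lit 8) n7_33 (H26.Net.cons (nat_lit 4) n7_34 (H26.Net.cons (nat_lit 2) n7_35 (H26.Net.cons (nat_lit 1) n7_36 (H26.Net.nil)))))))))))))))))))))))))))))))))))))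
noncomputable def n8 : H26.Net := H26.Net.cons (nat_lit 8) n8_0 (H26.Net.cons (nat_lit 4) n8_1 (H26.Net.cons (nat_lit 2) n8_2 (H26.Net.cons (nat_lit 1) n8_3 (H26.Net.nil))))
noncomputable def n9 : H26.Net := H26.Net.cons (nat_lit 16) n9_0 (H26.Net.cons (nat_lit 8) n9_1 (H26.Net.cons (nat_lit 4) n9_2 (H26.Net.cons (nat_lit 2) n9_3 (H26.Net.cons (nat_lit 1) n9_4 (H26.Net.nil)))))
noncomputable def n10 : H26.Net := H26.Net.cons (nat_lit 1) n10_0 (H26.Net.cons (nat_lit 2) n10_1 (H26.Net.cons (nat_lit 4) n10_2 (H26.Net.cons (nat_lit 8) n10_3 (H26.Net.cons (nat_lit 16) n10_4 (H26.Net.cons (nat_lit 32) n10_5 (H26.Net.cons (nat_lit 64) n10_6 (H26.Net.cons (nat_lit 128) n10_7 (H26.Net.cons (nat_lit 256) n10_8 (H26.Net.cons (nat_lit 512) n10_9 (H26.Net.cons (nat_lit 1024) n10_10 (H26.Net.cons (nat_lit 2048) n10_11 (H26.Net.cons (nat_lit 4096) n10_12 (H26.Net.cons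 (nat_lit 8192) n10_13 (H26.Net.cons (nat_lit 16384) n10_14 (H26.Net.cons (nat_lit 32768) n10_15 (H26.Net.cons (nat_lit 65536) n10_16 (H26.Net.cons (nat_lit 131072) n10_17 (H26.Net.cons (nat_lit 262144) n10_18 (H26.Net.cons (nat_lit 131072) n10_19 (H26.Net.cons (nat_lit 65536) n10_20 (H26.Net.cons (nat_lit 32768) n10_21 (H26.Net.cons (nat_lit 16384) n10_22 (H26.Net.cons (nat_lit 8192) n10_23 (H26.Net.cons (nat_lit 4096) n10_24 (H26.Net.cons (nat_lit 2048) n10_25 (H26.Net.cons (nat_lit 1024) n10_26 (H26.Net.cons (nat_lit 512) n10_27 (H26.Net.cons (nat_lit 256) n10_28 (H26.Net.cons (nat_lit 128) n10_29 (H26.Net.cons (nat_lit 64) n10_30 (H26.Net.cons (nat_lit 32) n10_31 (H26.Net.cons (nat_lit 16) n10_32 (H26.Net.cons (nat_lit 8) n10_33 (H26.Net.cons (nat_lit 4) n10_34 (H26.Net.cons (nat_lit 2) n10_35 (H26.Net.cons (nat_lit 1) n10_36 (H26.Net.nil)))))))))))))))))))))))))))))))))))))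
noncomputable def n11 : H26.Net := H26.Net.cons (nat_lit 1) n11_0 (H26.Net.cons (nat_lit 2) n11_1 (H26.Net.cons (nat_lit 4) n11_2 (H26.Net.cons (nat_lit 8) n11_3 (H26.Net.cons (nat_lit 16) n11_4 (H26.Net.cons (nat_lit 32) n11_5 (H26.Net.cons (nat_lit 64) n11_6 (H26.Net.cons (nat_lit 128) n11_7 (H26.Net.cons (nat_lit 256) n11_8 (H26.Net.cons (nat_lit 512) n11_9 (H26.Net.cons (nat_lit 1024) n11_10 (H26.Net.cons (nat_lit 2048) n11_11 (H26.Net.cons (nat_lit 4096) n11_12 (H26.Net.cons (nat_lit 8192) n11_13 (H26.Net.cons (nat_lit 16384) n11_14 (H26.Net.cons (nat_lit 32768) n11_15 (H26.Net.cons (nat_lit 65536) n11_16 (H26.Net.cons (nat_lit 131072) n11_17 (H26.Net.cons (nat_lit 262144) n11_18 (H26.Net.cons (nat_lit 131072) n11_19 (H26.Net.cons (nat_lit 65536) n11_20 (H26.Net.cons (nat_lit 32768) n11_21 (H26.Net.cons (nat_lit 16384) n11_22 (H26.Net.cons (nat_lit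 8192) n11_23 (H26.Net.cons (nat_lit 4096) n11_24 (H26.Net.cons (nat_lit 2048) n11_25 (H26.Net.cons (nat_lit 1024) n11_26 (H26.Net.cons (nat_lit 512) n11_27 (H26.Net.cons (nat_lit 256) n11_28 (H26.Net.cons (nat_lit 128) n11_29 (H26.Net.cons (nat_lit 64) n11_30 (H26.Net.cons (nat_lit 32) n11_31 (H26.Net.cons (nat_lit 16) n11_32 (H26.Net.cons (nat_lit 8) n11_33 (H26.Net.cons (nat_lit 4) n11_34 (H26.Net.cons (nat_lit 2) n11_35 (H26.Net.cons (nat_lit 1) n11_36 (H26.Net.nil)))))))))))))))))))))))))))))))))))))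
noncomputable def n12 : H26.Net := H26.Net.cons (nat_lit 1) n12_0 (H26.Net.cons (nat_lit 2) n12_1 (H26.Net.cons (nat_lit 4) n12_2 (H26.Net.cons (nat_lit 8) n12_3 (H26.Net.cons (nat_lit 16) n12_4 (H26.Net.cons (nat_lit 32) n12_5 (H26.Net.cons (nat_lit 64) n12_6 (H26.Net.cons (nat_lit 128) n12_7 (H26.Net.cons (nat_lit 256) n12_8 (H26.Net.cons (nat_lit 512) n12_9 (H26.Net.cons (nat_lit 1024) n12_10 (H26.Net.cons (nat_lit 2048) n12_11 (H26.Net.cons (nat_lit 4096) n12_12 (H26.Net.cons (nat_lit 8192) n12_13 (H26.Net.cons (nat_lit 16384) n12_14 (H26.Net.cons (nat_lit 32768) n12_15 (H26.Net.cons (nat_lit 65536) n12_16 (H26.Net.cons (nat_lit 131072) n12_17 (H26.Net.cons (nat_lit 262144) n12_18 (H26.Net.cons (nat_lit 131072) n12_19 (H26.Net.cons (nat_lit 65536) n12_20 (H26.Net.cons (nat_lit 32768) n12_21 (H26.Net.cons (nat_lit 16384) n12_22 (H26.Net.cons (nat_lit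 8192) n12_23 (H26.Net.cons (nat_lit 4096) n12_24 (H26.Net.cons (nat_lit 2048) n12_25 (H26.Net.cons (nat_lit 1024) n12_26 (H26.Net.cons (nat_lit 512) n12_27 (H26.Net.cons (nat_lit 256) n12_28 (H26.Net.cons (nat_lit 128) n12_29 (H26.Net.cons (nat_lit 64) n12_30 (H26.Net.cons (nat_lit 32) n12_31 (H26.Net.cons (nat_lit 16) n12_32 (H26.Net.cons (nat_lit 8) n12_33 (H26.Net.cons (nat_lit 4) n12_34 (H26.Net.cons (nat_lit 2) n12_35 (H26.Net.cons (nat_lit 1) n12_36 (H26.Net.nil)))))))))))))))))))))))))))))))))))))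
noncomputable def n13 : H26.Net := H26.Net.cons (nat_lit 1) n13_0 (H26.Net.cons (nat_lit 2) n13_1 (H26.Net.cons (nat_lit 4) n13_2 (H26.Net.cons (nat_lit 8) n13_3 (H26.Net.cons (nat_lit 16) n13_4 (H26.Net.cons (nat_lit 32) n13_5 (H26.Net.cons (nat_lit 64) n13_6 (H26.Net.cons (nat_lit 128) n13_7 (H26.Net.cons (nat_lit 256) n13_8 (H26.Net.cons (nat_lit 512) n13_9 (H26.Net.cons (nat_lit 1024) n13_10 (H26.Net.cons (nat_lit 2048) n13_11 (H26.Net.cons (nat_lit 4096) n13_12 (H26.Net.cons (nat_lit 8192) n13_13 (H26.Net.cons (nat_lit 16384) n13_14 (H26.Net.cons (nat_lit 32768) n13_15 (H26.Net.cons (nat_lit 65536) n13_16 (H26.Net.cons (nat_lit 131072) n13_17 (H26.Net.cons (nat_lit 262144) n13_18 (H26.Net.cons (nat_lit 131072) n13_19 (H26.Net.cons (nat_lit 65536) n13_20 (H26.Net.cons (nat_lit 32768) n13_21 (H26.Net.cons (nat_lit 16384) n13_22 (H26.Net.cons (nat_lit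 8192) n13_23 (H26.Net.cons (nat_lit 4096) n13_24 (H26.Net.cons (nat_lit 2048) n13_25 (H26.Net.cons (nat_lit 1024) n13_26 (H26.Net.cons (nat_lit 512) n13_27 (H26.Net.cons (nat_lit 256) n13_28 (H26.Net.cons (nat_lit 128) n13_29 (H26.Net.cons (nat_lit 64) n13_30 (H26.Net.cons (nat_lit 32) n13_31 (H26.Net.cons (nat_lit 16) n13_32 (H26.Net.cons (nat_lit 8) n13_33 (H26.Net.cons (nat_lit 4) n13_34 (H26.Net.cons (nat_lit 2) n13_35 (H26.Net.cons (nat_lit 1) n13_36 (H26.Net.nil)))))))))))))))))))))))))))))))))))))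
noncomputable def n14 : H26.Net := H26.Net.cons (nat_lit 1) n14_0 (H26.Net.cons (nat_lit 2) n14_1 (H26.Net.cons (nat_lit 4) n14_2 (H26.Net.cons (nat_lit 8) n14_3 (H26.Net.cons (nat_lit 16) n14_4 (H26.Net.cons (nat_lit 32) n14_5 (H26.Net.cons (nat_lit 64) n14_6 (H26.Net.cons (nat_lit 128) n14_7 (H26.Net.cons (nat_lit 256) n14_8 (H26.Net.cons (nat_lit 512) n14_9 (H26.Net.cons (nat_lit 1024) n14_10 (H26.Net.cons (nat_lit 2048) n14_11 (H26.Net.cons (nat_lit 4096) n14_12 (H26.Net.cons (nat_lit 8192) n14_13 (H26.Net.cons (nat_lit 16384) n14_14 (H26.Net.cons (nat_lit 32768) n14_15 (H26.Net.cons (nat_lit 65536) n14_16 (H26.Net.cons (nat_lit 131072) n14_17 (H26.Net.cons (nat_lit 262144) n14_18 (H26.Net.cons (nat_lit 131072) n14_19 (H26.Net.cons (nat_lit 65536) n14_20 (H26.Net.cons (nat_lit 32768) n14_21 (H26.Net.cons (nat_lit 16384) n14_22 (H26.Net.cons (nat_lit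 8192) n14_23 (H26.Net.cons (nat_lit 4096) n14_24 (H26.Net.cons (nat_lit 2048) n14_25 (H26.Net.cons (nat_lit 1024) n14_26 (H26.Net.cons (nat_lit 512) n14_27 (H26.Net.cons (nat_lit 256) n14_28 (H26.Net.cons (nat_lit 128) n14_29 (H26.Net.cons (nat_lit 64) n14_30 (H26.Net.cons (nat_lit 32) n14_31 (H26.Net.cons (nat_lit 16) n14_32 (H26.Net.cons (nat_lit 8) n14_33 (H26.Net.cons (nat_lit 4) n14_34 (H26.Net.cons (nat_lit 2) n14_35 (H26.Net.cons (nat_lit 1) n14_36 (H26.Net.nil)))))))))))))))))))))))))))))))))))))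
noncomputable def T : H26.Tab := ⟨(nat_lit 412896), [n0, n1, n2, n3, n4, n5, n6, n7, n8, n9, n10, n11, n12, n13, n14]⟩
noncomputable def T0 : H26.Tab := ⟨(nat_lit 412896), [n0, n1, n2, n3, n4, n5, n6, n7, n8, n9]⟩
noncomputable def Pg0 : List (List ℕ × List ℕ) := [([nat_lit 0, nat_lit 0], []), ([nat_lit 1, nat_lit 1], []), ([nat_lit 2, nat_lit 2], []), ([nat_lit 3, nat_lit 3], []), ([nat_lit 4, nat_lit 4], []), ([nat_lit 5, nat_lit 5], []), ([nat_lit 6, nat_lit 6], []), ([nat_lit 7, nat_lit 7], []), ([nat_lit 8, nat_lit 8], []), ([nat_lit 9, nat_lit 9], []), ([nat_lit 2, nat_lit 0], [nat_lit 0, nat_lit 2]), ([nat_lit 4, nat_lit 0], [nat_lit 0, nat_lit 4]), ([nat_lit 4, nat_lit 2], [nat_lit 2, nat_lit 4]), ([nat_lit 6, nat_lit 0], [nat_lit 0, nat_lit 6]), ([nat_lit 6, nat_lit 2], [nat_lit 2, nat_lit 6]), ([nat_lit 6, nat_lit 4], [nat_lit 4, nat_lit 6]), ([nat_lit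 7, nat_lit 0], [nat_lit 0, nat_lit 7]), ([nat_lit 7, nat_lit 2], [nat_lit 2, nat_lit 7]), ([nat_lit 7, nat_lit 4], [nat_lit 4, nat_lit 7]), ([nat_lit 7, nat_lit 6], [nat_lit 6, nat_lit 7])]
noncomputable def Pg1 : List (List ℕ × List ℕ) := [([nat_lit 3, nat_lit 0], [nat_lit 0, nat_lit 3]), ([nat_lit 3, nat_lit 1], [nat_lit 1, nat_lit 3]), ([nat_lit 4, nat_lit 1], [nat_lit 1, nat_lit 4]), ([nat_lit 5, nat_lit 0], [nat_lit 0, nat_lit 5]), ([nat_lit 5, nat_lit 1], [nat_lit 1, nat_lit 5]), ([nat_lit 5, nat_lit 2], [nat_lit 2, nat_lit 5]), ([nat_lit 5, nat_lit 3], [nat_lit 3, nat_lit 5]), ([nat_lit 6, nat_lit 1], [nat_lit 1, nat_lit 6]), ([nat_lit 6, nat_lit 3], [nat_lit 3, nat_lit 6]), ([nat_lit 7, nat_lit 1], [nat_lit 1, nat_lit 7]), ([nat_lit 7, nat_lit 5], [nat_lit 5, nat_lit 7]), ([nat_lit 8, nat_lit 0], [nat_lit 0, nat_lit 8]), ([nat_lit 8, nat_lit 1],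 [nat_lit 1, nat_lit 8]), ([nat_lit 8, nat_lit 2], [nat_lit 2, nat_lit 8]), ([nat_lit 8, nat_lit 3], [nat_lit 3, nat_lit 8]), ([nat_lit 8, nat_lit 4], [nat_lit 4, nat_lit 8]), ([nat_lit 8, nat_lit 5], [nat_lit 5, nat_lit 8]), ([nat_lit 8, nat_lit 6], [nat_lit 6, nat_lit 8]), ([nat_lit 9, nat_lit 0], [nat_lit 0, nat_lit 9]), ([nat_lit 9, nat_lit 1], [nat_lit 1, nat_lit 9]), ([nat_lit 9, nat_lit 2], [nat_lit 2, nat_lit 9]), ([nat_lit 9, nat_lit 3], [nat_lit 3, nat_lit 9]), ([nat_lit 9, nat_lit 4], [nat_lit 4, nat_lit 9]), ([nat_lit 9, nat_lit 5], [nat_lit 5, nat_lit 9]), ([nat_lit 9, nat_lit 7], [nat_lit 7, nat_lit 9]), ([nat_lit 9, nat_lit 8], [nat_lit 8, nat_lit 9])]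
noncomputable def Pg2 : List (List ℕ × List ℕ) := [([nat_lit 1, nat_lit 0, nat_lit 1], [nat_lit 0, nat_lit 1, nat_lit 0]), ([nat_lit 2, nat_lit 1, nat_lit 2], [nat_lit 1, nat_lit 2, nat_lit 1]), ([nat_lit 3, nat_lit 2, nat_lit 3], [nat_lit 2, nat_lit 3, nat_lit 2]), ([nat_lit 4, nat_lit 3, nat_lit 4], [nat_lit 3, nat_lit 4, nat_lit 3]), ([nat_lit 5, nat_lit 4, nat_lit 5], [nat_lit 4, nat_lit 5, nat_lit 4]), ([nat_lit 6, nat_lit 5, nat_lit 6], [nat_lit 5, nat_lit 6, nat_lit 5]), ([nat_lit 7, nat_lit 3, nat_lit 7], [nat_lit 3, nat_lit 7, nat_lit 3]), ([nat_lit 8, nat_lit 7, nat_lit 8], [nat_lit 7, nat_lit 8, nat_lit 7]), ([nat_lit 9, nat_lit 6, nat_lit 9], [nat_lit 6, nat_lit 9, nat_lit 6])]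
noncomputable def Pg3 : List (List ℕ × List ℕ) := [([nat_lit 7, nat_lit 5, nat_lit 4, nat_lit 3, nat_lit 2, nat_lit 1, nat_lit 0, nat_lit 7, nat_lit 5, nat_lit 4, nat_lit 3, nat_lit 2, nat_lit 1, nat_lit 0, nat_lit 7, nat_lit 5, nat_lit 4, nat_lit 3, nat_lit 2, nat_lit 1, nat_lit 0, nat_lit 7, nat_lit 5, nat_lit 4, nat_lit 3, nat_lit 2, nat_lit 1, nat_lit 0, nat_lit 7, nat_lit 5, nat_lit 4, nat_lit 3], [nat_lit 0, nat_lit 1, nat_lit 2, nat_lit 3, nat_lit 4, nat_lit 5, nat_lit 7, nat_lit 0, nat_lit 1, nat_lit 2, nat_lit 3, nat_lit 4, nat_lit 5, nat_lit 7, nat_lit 0, nat_lit 1, nat_lit 2, nat_lit 3, nat_lit 4, nat_lit 5, nat_lit 7, nat_lit 0, nat_lit 1, nat_lit 2, nat_lit 3, nat_lit 4, nat_lit 5, nat_lit 7, nat_lit 0, nat_lit 1, nat_lit 2])]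
noncomputable def Pg4 : List (List ℕ × List ℕ) := [([nat_lit 8, nat_lit 7, nat_lit 3, nat_lit 5, nat_lit 4, nat_lit 3, nat_lit 1, nat_lit 2, nat_lit 3, nat_lit 8, nat_lit 7, nat_lit 3, nat_lit 5, nat_lit 4, nat_lit 3, nat_lit 1, nat_lit 2, nat_lit 3, nat_lit 8, nat_lit 7, nat_lit 3, nat_lit 5, nat_lit 4, nat_lit 3, nat_lit 1, nat_lit 2, nat_lit 3, nat_lit 8, nat_lit 7, nat_lit 3, nat_lit 5, nat_lit 4, nat_lit 3, nat_lit 1, nat_lit 2, nat_lit 3, nat_lit 8, nat_lit 7, nat_lit 3, nat_lit 5, nat_lit 4, nat_lit 3, nat_lit 1, nat_lit 2, nat_lit 3], [nat_lit 3, nat_lit 2, nat_lit 1, nat_lit 3, nat_lit 4, nat_lit 5, nat_lit 3, nat_lit 7, nat_lit 8, nat_lit 3, nat_lit 2, nat_lit 1, nat_lit 3, nat_lit 4, nat_lit 5, nat_lit 3, nat_lit 7, nat_lit 8, nat_lit 3, nat_lit 2, nat_lit 1, nat_lit 3, nat_lit 4, nat_lit 5, nat_lit 3, nat_lit 7, nat_lit 8, nat_lit 3, nat_lit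 2, nat_lit 1, nat_lit 3, nat_lit 4, nat_lit 5, nat_lit 3, nat_lit 7, nat_lit 8, nat_lit 3, nat_lit 2, nat_lit 1, nat_lit 3, nat_lit 4, nat_lit 5, nat_lit 3, nat_lit 7, nat_lit 8])]
noncomputable def PA : List (List ℕ × List ℕ) := [([nat_lit 0, nat_lit 0], []), ([nat_lit 1, nat_lit 1], []), ([nat_lit 2, nat_lit 2], []), ([nat_lit 3, nat_lit 3], []), ([nat_lit 4, nat_lit 4], []), ([nat_lit 5, nat_lit 5], []), ([nat_lit 6, nat_lit 6], []), ([nat_lit 7, nat_lit 7], []), ([nat_lit 8, nat_lit 8], []), ([nat_lit 9, nat_lit 9], []), ([nat_lit 1, nat_lit 0, nat_lit 1], [nat_lit 0, nat_lit 1, nat_lit 0]), ([nat_lit 2, nat_lit 0], [nat_lit 0, nat_lit 2]), ([nat_lit 2, nat_lit 1, nat_lit 2], [nat_lit 1, nat_lit 2, nat_lit 1]), ([nat_lit 3, nat_lit 0], [nat_lit 0, nat_lit 3]), ([nat_lit 3, nat_lit 1], [nat_lit 1, nat_lit 3]), ([nat_lit 3, nat_lit 2, nat_lit 3], [nat_lit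 2, nat_lit 3, nat_lit 2]), ([nat_lit 4, nat_lit 0], [nat_lit 0, nat_lit 4]), ([nat_lit 4, nat_lit 1], [nat_lit 1, nat_lit 4]), ([nat_lit 4, nat_lit 2], [nat_lit 2, nat_lit 4]), ([nat_lit 4, nat_lit 3, nat_lit 4], [nat_lit 3, nat_lit 4, nat_lit 3]), ([nat_lit 5, nat_lit 0], [nat_lit 0, nat_lit 5]), ([nat_lit 5, nat_lit 1], [nat_lit 1, nat_lit 5]), ([nat_lit 5, nat_lit 2], [nat_lit 2, nat_lit 5]), ([nat_lit 5, nat_lit 3], [nat_lit 3, nat_lit 5]), ([nat_lit 5, nat_lit 4, nat_lit 5], [nat_lit 4, nat_lit 5, nat_lit 4]), ([nat_lit 6, nat_lit 0], [nat_lit 0, nat_lit 6]), ([nat_lit 6, nat_lit 1], [nat_lit 1, nat_lit 6]), ([nat_lit 6, nat_lit 2], [nat_lit 2, nat_lit 6]), ([nat_lit 6, nat_lit 3], [nat_lit 3, nat_lit 6]), ([nat_lit 6, nat_lit 4], [nat_lit 4, nat_lit 6]), ([nat_lit 6, nat_lit 5, nat_lit 6], [nat_lit 5, nat_lit 6, nat_lit 5]), ([nat_lit 7, nat_lit 0],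 [nat_lit 0, nat_lit 7]), ([nat_lit 7, nat_lit 1], [nat_lit 1, nat_lit 7]), ([nat_lit 7, nat_lit 2], [nat_lit 2, nat_lit 7]), ([nat_lit 7, nat_lit 3, nat_lit 7], [nat_lit 3, nat_lit 7, nat_lit 3]), ([nat_lit 7, nat_lit 4], [nat_lit 4, nat_lit 7]), ([nat_lit 7, nat_lit 5], [nat_lit 5, nat_lit 7]), ([nat_lit 7, nat_lit 6], [nat_lit 6, nat_lit 7]), ([nat_lit 8, nat_lit 0], [nat_lit 0, nat_lit 8]), ([nat_lit 8, nat_lit 1], [nat_lit 1, nat_lit 8]), ([nat_lit 8, nat_lit 2], [nat_lit 2, nat_lit 8]), ([nat_lit 8, nat_lit 3], [nat_lit 3, nat_lit 8]), ([nat_lit 8, nat_lit 4], [nat_lit 4, nat_lit 8]), ([nat_lit 8, nat_lit 5], [nat_lit 5, nat_lit 8]), ([nat_lit 8, nat_lit 6], [nat_lit 6, nat_lit 8]), ([nat_lit 8, nat_lit 7, nat_lit 8], [nat_lit 7, nat_lit 8, nat_lit 7]), ([nat_lit 9, nat_lit 0], [nat_lit 0, nat_lit 9]), ([nat_lit 9, nat_lit 1], [nat_lit 1, nat_lit 9]),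 ([nat_lit 9, nat_lit 2], [nat_lit 2, nat_lit 9]), ([nat_lit 9, nat_lit 3], [nat_lit 3, nat_lit 9]), ([nat_lit 9, nat_lit 4], [nat_lit 4, nat_lit 9]), ([nat_lit 9, nat_lit 5], [nat_lit 5, nat_lit 9]), ([nat_lit 9, nat_lit 6, nat_lit 9], [nat_lit 6, nat_lit 9, nat_lit 6]), ([nat_lit 9, nat_lit 7], [nat_lit 7, nat_lit 9]), ([nat_lit 9, nat_lit 8], [nat_lit 8, nat_lit 9]), ([nat_lit 7, nat_lit 5, nat_lit 4, nat_lit 3, nat_lit 2, nat_lit 1, nat_lit 0, nat_lit 7, nat_lit 5, nat_lit 4, nat_lit 3, nat_lit 2, nat_lit 1, nat_lit 0, nat_lit 7, nat_lit 5, nat_lit 4, nat_lit 3, nat_lit 2, nat_lit 1, nat_lit 0, nat_lit 7, nat_lit 5, nat_lit 4, nat_lit 3, nat_lit 2, nat_lit 1, nat_lit 0, nat_lit 7, nat_lit 5, nat_lit 4, nat_lit 3], [nat_lit 0, nat_lit 1, nat_lit 2, nat_lit 3, nat_lit 4, nat_lit 5, nat_lit 7, nat_lit 0, nat_lit 1, nat_lit 2, nat_lit 3, nat_lit 4, nat_lit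 5, nat_lit 7, nat_lit 0, nat_lit 1, nat_lit 2, nat_lit 3, nat_lit 4, nat_lit 5, nat_lit 7, nat_lit 0, nat_lit 1, nat_lit 2, nat_lit 3, nat_lit 4, nat_lit 5, nat_lit 7, nat_lit 0, nat_lit 1, nat_lit 2]), ([nat_lit 8, nat_lit 7, nat_lit 3, nat_lit 5, nat_lit 4, nat_lit 3, nat_lit 1, nat_lit 2, nat_lit 3, nat_lit 8, nat_lit 7, nat_lit 3, nat_lit 5, nat_lit 4, nat_lit 3, nat_lit 1, nat_lit 2, nat_lit 3, nat_lit 8, nat_lit 7, nat_lit 3, nat_lit 5, nat_lit 4, nat_lit 3, nat_lit 1, nat_lit 2, nat_lit 3, nat_lit 8, nat_lit 7, nat_lit 3, nat_lit 5, nat_lit 4, nat_lit 3, nat_lit 1, nat_lit 2, nat_lit 3, nat_lit 8, nat_lit 7, nat_lit 3, nat_lit 5, nat_lit 4, nat_lit 3, nat_lit 1, nat_lit 2, nat_lit 3], [nat_lit 3, nat_lit 2, nat_lit 1, nat_lit 3, nat_lit 4, nat_lit 5, nat_lit 3, nat_lit 7, nat_lit 8, nat_lit 3, nat_lit 2, nat_lit 1, nat_lit 3, nat_lit 4, nat_lit 5,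 nat_lit 3, nat_lit 7, nat_lit 8, nat_lit 3, nat_lit 2, nat_lit 1, nat_lit 3, nat_lit 4, nat_lit 5, nat_lit 3, nat_lit 7, nat_lit 8, nat_lit 3, nat_lit 2, nat_lit 1, nat_lit 3, nat_lit 4, nat_lit 5, nat_lit 3, nat_lit 7, nat_lit 8, nat_lit 3, nat_lit 2, nat_lit 1, nat_lit 3, nat_lit 4, nat_lit 5, nat_lit 3, nat_lit 7, nat_lit 8])]
noncomputable def Px0 : List (List ℕ × List ℕ) := [([nat_lit 10], [nat_lit 1, nat_lit 4, nat_lit 5, nat_lit 3, nat_lit 4, nat_lit 2, nat_lit 3, nat_lit 7, nat_lit 1, nat_lit 2, nat_lit 3, nat_lit 4, nat_lit 5, nat_lit 6, nat_lit 9, nat_lit 6, nat_lit 1, nat_lit 0, nat_lit 3, nat_lit 4, nat_lit 5, nat_lit 4, nat_lit 3, nat_lit 2, nat_lit 1, nat_lit 3, nat_lit 4, nat_lit 2, nat_lit 3, nat_lit 7, nat_lit 3, nat_lit 2, nat_lit 3, nat_lit 4, nat_lit 0, nat_lit 3])]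
noncomputable def Px1 : List (List ℕ × List ℕ) := [([nat_lit 11], [nat_lit 6, nat_lit 9, nat_lit 4, nat_lit 5, nat_lit 6, nat_lit 3, nat_lit 4, nat_lit 5, nat_lit 2, nat_lit 3, nat_lit 4, nat_lit 1, nat_lit 2, nat_lit 3, nat_lit 7, nat_lit 0, nat_lit 1, nat_lit 2, nat_lit 3, nat_lit 4, nat_lit 5, nat_lit 6, nat_lit 9, nat_lit 1, nat_lit 2, nat_lit 3, nat_lit 7, nat_lit 4, nat_lit 5, nat_lit 3, nat_lit 4, nat_lit 2, nat_lit 3, nat_lit 7, nat_lit 1, nat_lit 2, nat_lit 3, nat_lit 4, nat_lit 5, nat_lit 6, nat_lit 8, nat_lit 0, nat_lit 4, nat_lit 3, nat_lit 2, nat_lit 1, nat_lit 2, nat_lit 3, nat_lit 7, nat_lit 4])]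
noncomputable def Px2 : List (List ℕ × List ℕ) := [([nat_lit 12], [nat_lit 7, nat_lit 8, nat_lit 7, nat_lit 5, nat_lit 3, nat_lit 4, nat_lit 2, nat_lit 3, nat_lit 7, nat_lit 0, nat_lit 1, nat_lit 2, nat_lit 3, nat_lit 4, nat_lit 5, nat_lit 6, nat_lit 9, nat_lit 6, nat_lit 5, nat_lit 4, nat_lit 3, nat_lit 7, nat_lit 8, nat_lit 4, nat_lit 2, nat_lit 3, nat_lit 7, nat_lit 1, nat_lit 2, nat_lit 3, nat_lit 4, nat_lit 5, nat_lit 6, nat_lit 0, nat_lit 3, nat_lit 7, nat_lit 8, nat_lit 5, nat_lit 4, nat_lit 3, nat_lit 7, nat_lit 2, nat_lit 3, nat_lit 4, nat_lit 5, nat_lit 3, nat_lit 7, nat_lit 4, nat_lit 3, nat_lit 2, nat_lit 3, nat_lit 4, nat_lit 3, nat_lit 7])]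
noncomputable def Px3 : List (List ℕ × List ℕ) := [([nat_lit 13], [nat_lit 5, nat_lit 7, nat_lit 8, nat_lit 3, nat_lit 7, nat_lit 4, nat_lit 5, nat_lit 3, nat_lit 4, nat_lit 2, nat_lit 3, nat_lit 7, nat_lit 8, nat_lit 4, nat_lit 5, nat_lit 3, nat_lit 4, nat_lit 1, nat_lit 2, nat_lit 3, nat_lit 7, nat_lit 0, nat_lit 1, nat_lit 2, nat_lit 3, nat_lit 4, nat_lit 5, nat_lit 6, nat_lit 9, nat_lit 2, nat_lit 3, nat_lit 4, nat_lit 1, nat_lit 2, nat_lit 3, nat_lit 7, nat_lit 5, nat_lit 6, nat_lit 4, nat_lit 5, nat_lit 3, nat_lit 4, nat_lit 0, nat_lit 1, nat_lit 2, nat_lit 3, nat_lit 7, nat_lit 8, nat_lit 4, nat_lit 1, nat_lit 2, nat_lit 3, nat_lit 7, nat_lit 0, nat_lit 1, nat_lit 2, nat_lit 3, nat_lit 4, nat_lit 5, nat_lit 6, nat_lit 5, nat_lit 8, nat_lit 7, nat_lit 3, nat_lit 2, nat_lit 1, nat_lit 0, nat_lit 8, nat_lit 1, nat_lit 7])]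
noncomputable def Px4 : List (List ℕ × List ℕ) := [([nat_lit 14], [nat_lit 9, nat_lit 8, nat_lit 7, nat_lit 3, nat_lit 4, nat_lit 2, nat_lit 3, nat_lit 7, nat_lit 8, nat_lit 6, nat_lit 5, nat_lit 4, nat_lit 3, nat_lit 7, nat_lit 0, nat_lit 1, nat_lit 2, nat_lit 3, nat_lit 4, nat_lit 5, nat_lit 6, nat_lit 9, nat_lit 6, nat_lit 5, nat_lit 4, nat_lit 3, nat_lit 7, nat_lit 2, nat_lit 3, nat_lit 4, nat_lit 5, nat_lit 6, nat_lit 2, nat_lit 3, nat_lit 7, nat_lit 4, nat_lit 5, nat_lit 3, nat_lit 4, nat_lit 2, nat_lit 3, nat_lit 7, nat_lit 8, nat_lit 3, nat_lit 4, nat_lit 1, nat_lit 2, nat_lit 3, nat_lit 7, nat_lit 0, nat_lit 1, nat_lit 2, nat_lit 3, nat_lit 4, nat_lit 5, nat_lit 7, nat_lit 3, nat_lit 2, nat_lit 1, nat_lit 0, nat_lit 3, nat_lit 2, nat_lit 1, nat_lit 7, nat_lit 8, nat_lit 3, nat_lit 7, nat_lit 3, nat_lit 4, nat_lit 3])]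
noncomputable def PR : List (List ℕ × List ℕ) := Px0 ++ Px1 ++ Px2 ++ Px3 ++ Px4
noncomputable def WN : List (List ℕ) := [[nat_lit 0],
  [nat_lit 1],
  [nat_lit 2],
  [nat_lit 3],
  [nat_lit 4],
  [nat_lit 5],
  [nat_lit 6],
  [nat_lit 7],
  [nat_lit 8],
  [nat_lit 9]]
noncomputable def WH : List (List ℕ) := [[nat_lit 0],
  [nat_lit 1],
  [nat_lit 2],
  [nat_lit 3],
  [nat_lit 4],
  [nat_lit 5],
  [nat_lit 6],
  [nat_lit 7],
  [nat_lit 8]]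
noncomputable def VH : List (List ℕ) := [[nat_lit 0],
  [nat_lit 1],
  [nat_lit 2],
  [nat_lit 3],
  [nat_lit 4],
  [nat_lit 5],
  [nat_lit 6],
  [nat_lit 7],
  [nat_lit 8]]
noncomputable def IH : List (List ℕ) := [[nat_lit 0],
  [nat_lit 1],
  [nat_lit 2],
  [nat_lit 3],
  [nat_lit 4],
  [nat_lit 5],
  [nat_lit 6],
  [nat_lit 7],
  [nat_lit 8],
  [nat_lit 2, nat_lit 3],
  [nat_lit 3, nat_lit 5],
  [nat_lit 3, nat_lit 7],
  [nat_lit 3, nat_lit 8],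
  [nat_lit 7, nat_lit 8]]
noncomputable def WP : List (List ℕ) := [[nat_lit 3],
  [nat_lit 4],
  [nat_lit 5],
  [nat_lit 6],
  [nat_lit 9],
  [nat_lit 2],
  [nat_lit 1],
  [nat_lit 7],
  [nat_lit 1, nat_lit 4, nat_lit 5, nat_lit 3, nat_lit 4, nat_lit 2, nat_lit 3, nat_lit 7, nat_lit 1, nat_lit 2, nat_lit 3, nat_lit 4, nat_lit 5, nat_lit 6, nat_lit 9, nat_lit 6, nat_lit 1, nat_lit 0, nat_lit 3, nat_lit 4, nat_lit 5, nat_lit 4, nat_lit 3, nat_lit 2, nat_lit 1, nat_lit 3, nat_lit 4, nat_lit 2, nat_lit 3, nat_lit 7, nat_lit 3, nat_lit 2, nat_lit 3, nat_lit 4, nat_lit 0, nat_lit 3]]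
noncomputable def VP : List (List ℕ) := [[nat_lit 3],
  [nat_lit 4],
  [nat_lit 5],
  [nat_lit 6],
  [nat_lit 9],
  [nat_lit 2],
  [nat_lit 1],
  [nat_lit 7],
  [nat_lit 10]]
noncomputable def IP : List (List ℕ) := [[nat_lit 0],
  [nat_lit 1],
  [nat_lit 2],
  [nat_lit 3],
  [nat_lit 4],
  [nat_lit 5],
  [nat_lit 6],
  [nat_lit 7],
  [nat_lit 8],
  [nat_lit 8, nat_lit 8],
  [nat_lit 0, nat_lit 2],
  [nat_lit 0, nat_lit 4],
  [nat_lit 2, nat_lit 4],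
  [nat_lit 2, nat_lit 6]]
noncomputable def WA : List (List ℕ) := [[nat_lit 0, nat_lit 3],
  [nat_lit 1, nat_lit 3],
  [nat_lit 2, nat_lit 3],
  [nat_lit 7, nat_lit 3],
  [nat_lit 8, nat_lit 3],
  [nat_lit 5, nat_lit 3],
  [nat_lit 6, nat_lit 3],
  [nat_lit 9, nat_lit 3],
  [nat_lit 6, nat_lit 9, nat_lit 4, nat_lit 5, nat_lit 6, nat_lit 3, nat_lit 4, nat_lit 5, nat_lit 2, nat_lit 3, nat_lit 4, nat_lit 1, nat_lit 2, nat_lit 3, nat_lit 7, nat_lit 0, nat_lit 1, nat_lit 2, nat_lit 3, nat_lit 4, nat_lit 5, nat_lit 6, nat_lit 9, nat_lit 1, nat_lit 2, nat_lit 3, nat_lit 7, nat_lit 4, nat_lit 5, nat_lit 3, nat_lit 4, nat_lit 2, nat_lit 3, nat_lit 7, nat_lit 1, nat_lit 2, nat_lit 3, nat_lit 4, nat_lit 5, nat_lit 6, nat_lit 8, nat_lit 0, nat_lit 4, nat_lit 3, nat_lit 2, nat_lit 1, nat_lit 2, nat_lit 3, nat_lit 7, nat_lit 4]]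
noncomputable def VA : List (List ℕ) := [[nat_lit 0, nat_lit 3],
  [nat_lit 1, nat_lit 3],
  [nat_lit 2, nat_lit 3],
  [nat_lit 7, nat_lit 3],
  [nat_lit 8, nat_lit 3],
  [nat_lit 5, nat_lit 3],
  [nat_lit 6, nat_lit 3],
  [nat_lit 9, nat_lit 3],
  [nat_lit 11]]
noncomputable def IA : List (List ℕ) := [[nat_lit 0],
  [nat_lit 1],
  [nat_lit 2],
  [nat_lit 3],
  [nat_lit 4],
  [nat_lit 5],
  [nat_lit 6],
  [nat_lit 7],
  [nat_lit 8],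
  [nat_lit 8, nat_lit 8],
  [nat_lit 0, nat_lit 4],
  [nat_lit 1, nat_lit 5],
  [nat_lit 1, nat_lit 6],
  [nat_lit 4, nat_lit 7],
  [nat_lit 5, nat_lit 7]]
noncomputable def WO : List (List ℕ) := [[nat_lit 4, nat_lit 3],
  [nat_lit 5, nat_lit 3],
  [nat_lit 6, nat_lit 3],
  [nat_lit 9, nat_lit 3],
  [nat_lit 2, nat_lit 3],
  [nat_lit 7, nat_lit 3],
  [nat_lit 7, nat_lit 8, nat_lit 7, nat_lit 5, nat_lit 3, nat_lit 4, nat_lit 2, nat_lit 3, nat_lit 7, nat_lit 0, nat_lit 1, nat_lit 2, nat_lit 3, nat_lit 4, nat_lit 5, nat_lit 6, nat_lit 9, nat_lit 6, nat_lit 5, nat_lit 4, nat_lit 3, nat_lit 7, nat_lit 8, nat_lit 4, nat_lit 2, nat_lit 3, nat_lit 7, nat_lit 1, nat_lit 2, nat_lit 3, nat_lit 4, nat_lit 5, nat_lit 6, nat_lit 0, nat_lit 3, nat_lit 7, nat_lit 8, nat_lit 5, nat_lit 4, nat_lit 3, nat_lit 7, nat_lit 2, nat_lit 3, nat_lit 4, nat_lit 5, nat_lit 3, nat_lit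 7, nat_lit 4, nat_lit 3, nat_lit 2, nat_lit 3, nat_lit 4, nat_lit 3, nat_lit 7]]
noncomputable def VO : List (List ℕ) := [[nat_lit 4, nat_lit 3],
  [nat_lit 5, nat_lit 3],
  [nat_lit 6, nat_lit 3],
  [nat_lit 9, nat_lit 3],
  [nat_lit 2, nat_lit 3],
  [nat_lit 7, nat_lit 3],
  [nat_lit 12]]
noncomputable def IO : List (List ℕ) := [[nat_lit 0],
  [nat_lit 1],
  [nat_lit 2],
  [nat_lit 3],
  [nat_lit 4],
  [nat_lit 5],
  [nat_lit 6]]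
noncomputable def WT : List (List ℕ) := [[nat_lit 3],
  [nat_lit 5],
  [nat_lit 1],
  [nat_lit 8],
  [nat_lit 9],
  [nat_lit 5, nat_lit 7, nat_lit 8, nat_lit 3, nat_lit 7, nat_lit 4, nat_lit 5, nat_lit 3, nat_lit 4, nat_lit 2, nat_lit 3, nat_lit 7, nat_lit 8, nat_lit 4, nat_lit 5, nat_lit 3, nat_lit 4, nat_lit 1, nat_lit 2, nat_lit 3, nat_lit 7, nat_lit 0, nat_lit 1, nat_lit 2, nat_lit 3, nat_lit 4, nat_lit 5, nat_lit 6, nat_lit 9, nat_lit 2, nat_lit 3, nat_lit 4, nat_lit 1, nat_lit 2, nat_lit 3, nat_lit 7, nat_lit 5, nat_lit 6, nat_lit 4, nat_lit 5, nat_lit 3, nat_lit 4, nat_lit 0, nat_lit 1, nat_lit 2, nat_lit 3, nat_lit 7, nat_lit 8, nat_lit 4, nat_lit 1, nat_lit 2, nat_lit 3, nat_lit 7, nat_lit 0, nat_lit 1, nat_lit 2, nat_lit 3, nat_lit 4, nat_lit 5, nat_lit 6, nat_lit 5, nat_lit 8, nat_lit 7, nat_lit 3, nat_lit 2, nat_lit 1, nat_lit 0, nat_lit 8, nat_lit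 1, nat_lit 7],
  [nat_lit 9, nat_lit 8, nat_lit 7, nat_lit 3, nat_lit 4, nat_lit 2, nat_lit 3, nat_lit 7, nat_lit 8, nat_lit 6, nat_lit 5, nat_lit 4, nat_lit 3, nat_lit 7, nat_lit 0, nat_lit 1, nat_lit 2, nat_lit 3, nat_lit 4, nat_lit 5, nat_lit 6, nat_lit 9, nat_lit 6, nat_lit 5, nat_lit 4, nat_lit 3, nat_lit 7, nat_lit 2, nat_lit 3, nat_lit 4, nat_lit 5, nat_lit 6, nat_lit 2, nat_lit 3, nat_lit 7, nat_lit 4, nat_lit 5, nat_lit 3, nat_lit 4, nat_lit 2, nat_lit 3, nat_lit 7, nat_lit 8, nat_lit 3, nat_lit 4, nat_lit 1, nat_lit 2, nat_lit 3, nat_lit 7, nat_lit 0, nat_lit 1, nat_lit 2, nat_lit 3, nat_lit 4, nat_lit 5, nat_lit 7, nat_lit 3, nat_lit 2, nat_lit 1, nat_lit 0, nat_lit 3, nat_lit 2, nat_lit 1, nat_lit 7, nat_lit 8, nat_lit 3, nat_lit 7, nat_lit 3, nat_lit 4, nat_lit 3]]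
noncomputable def VT : List (List ℕ) := [[nat_lit 3],
  [nat_lit 5],
  [nat_lit 1],
  [nat_lit 8],
  [nat_lit 9],
  [nat_lit 13],
  [nat_lit 14]]
noncomputable def IT : List (List ℕ) := [[nat_lit 0],
  [nat_lit 1],
  [nat_lit 2],
  [nat_lit 3],
  [nat_lit 4],
  [nat_lit 5],
  [nat_lit 6],
  [nat_lit 5, nat_lit 5],
  [nat_lit 6, nat_lit 6]]

end H15.YB.X2
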